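import Cfsg.Agent.Cuspidal.RootSum
import Cfsg.Agent.Blocks.BrauerInduction
import Cfsg.Agent.Chars.Induced

/-!
# Brauer lifts are generalized characters
-/

set_option autoImplicit false

namespace Cfsg.Lib.Cuspidal

attribute [local instance] Fintype.ofFinite

open scoped Classical
open Finset Polynomial Cfsg.Lib.Chars

universe u v w

variable {L : Type u} [Field L]

theorem polySum_self (θ : L → ℂ) (p : L[X]) : polySum θ p = (p.roots.map θ).sum := by
  rw [polySum, Algebra.algebraMap_self, Polynomial.map_id]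

theorem roots_charpoly_smul {ι : Type*} [Fintype ι] [DecidableEq ι] (A : Matrix ι ι L) {c : L}
    (hc : c ≠ 0) : (c • A).charpoly.roots = A.charpoly.roots.map (c * ·) := by
  have h : A.charpoly.comp (C c⁻¹ * X) = C c⁻¹ ^ Fintype.card ι * (c • A).charpoly := by
    rw [Matrix.charpoly, Matrix.charpoly, ← coe_compRingHom_apply, RingHom.map_det,
      ← Matrix.det_smul]
    congr 1
    ext i j : 1
    by_cases hij : i = j
    · subst hij
      simp only [RingHom.mapMatrix_apply, Matrix.map_apply, Matrix.charmatrix_apply_eq,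
        coe_compRingHom_apply, sub_comp, X_comp, C_comp, Matrix.smul_apply, smul_eq_mul, mul_sub,
        map_mul]
      rw [← mul_assoc, ← C_mul, inv_mul_cancel₀ hc, C_1, one_mul]
    · simp only [RingHom.mapMatrix_apply, Matrix.map_apply, Matrix.charmatrix_apply_ne _ _ _ hij,
        coe_compRingHom_apply, neg_comp, C_comp, Matrix.smul_apply, smul_eq_mul, mul_neg, map_mul]
      rw [← mul_assoc, ← C_mul, inv_mul_cancel₀ hc, C_1, one_mul]
  have h2 : (A.charpoly.comp (C c⁻¹ * X + C 0)).roots = (c • A).charpoly.roots := by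
    rw [C_0, add_zero, h, ← C_pow, roots_C_mul _ (pow_ne_zero _ (inv_ne_zero hc))]
  rw [← h2, roots_comp_C_mul_X_add_C _ _ _ (isUnit_iff_ne_zero.mpr (inv_ne_zero hc))]
  simp [Ring.inverse_eq_inv']

section

variable {M : Type v} [AddCommGroup M] [Module L M] [FiniteDimensional L M]

theorem charpoly_roots_smul (f : Module.End L M) {c : L} (hc : c ≠ 0) :
    (LinearMap.charpoly (c • f)).roots = (LinearMap.charpoly f).roots.map (c * ·) := by
  let b := Module.Free.chooseBasis L M
  rw [← LinearMap.charpoly_toMatrix (c • f) b, ← LinearMap.charpoly_toMatrix f b, map_smul,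
    roots_charpoly_smul _ hc]

theorem isUnit_rho {H : Type w} [Group H] (ρ : H →* Module.End L M) (h : H) : IsUnit (ρ h) :=
  (Group.isUnit h).map ρ

theorem rho_inv_apply {H : Type w} [Group H] (ρ : H →* Module.End L M) (h : H) (x : M) :
    ρ h⁻¹ (ρ h x) = x := by
  rw [← Module.End.mul_apply, ← map_mul, inv_mul_cancel, map_one, Module.End.one_apply]

end

variable (θ : L → ℂ)

theorem isGeneralized_rootSum_nilpotent
    (hmul : ∀ a b, a ≠ 0 → b ≠ 0 → θ (a * b) = θ a * θ b) (hone : θ 1 = 1)
    (hinj : ∀ a, a ≠ 0 → θ a = 1 → a = 1) :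
    ∀ (n : ℕ) (H : Type w) [Group H] [Finite H] [Group.IsNilpotent H] (M : Type v)
      [AddCommGroup M] [Module L M] [FiniteDimensional L M] (ρ : H →* Module.End L M),
      Nat.card H + Module.finrank L M = n → (∀ h, (LinearMap.charpoly (ρ h)).Splits) →
      Cfsg.IsGeneralizedCharacter H (fun h => rootSum θ (ρ h)) := by
  intro n
  induction n using Nat.strong_induction_on with
  | _ n ih =>
  intro H _ _ _ M _ _ _ ρ hn hsp
  by_cases hM : Module.finrank L M = 0
  · have hzero : (fun h => rootSum θ (ρ h)) = (0 : H → ℂ) := by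
      funext h
      have : (LinearMap.charpoly (ρ h)) = 1 :=
        (LinearMap.charpoly_monic _).natDegree_eq_zero.mp (by rw [LinearMap.charpoly_natDegree, hM])
      rw [rootSum_eq, this, polySum_self]
      simp
    rw [hzero]
    exact isGeneralized_zero
  have hMn : Nontrivial M := Module.nontrivial_of_finrank_pos (Nat.pos_of_ne_zero hM)
  by_cases hred : ∃ U : Submodule L M, U ≠ ⊥ ∧ U ≠ ⊤ ∧ ∀ h, ∀ x ∈ U, ρ h x ∈ U
  · obtain ⟨U, hU0, hU1, hU⟩ := hred
    let ρ₁ : H →* Module.End L U :=
      { toFun := fun h => (ρ h).restrict (hU h)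
        map_one' := LinearMap.ext fun x => Subtype.ext (by simp [map_one ρ])
        map_mul' := fun a b => LinearMap.ext fun x => Subtype.ext (by simp [map_mul ρ]) }
    let ρ₂ : H →* Module.End L (M ⧸ U) :=
      { toFun := fun h => U.mapQ U (ρ h) (hU h)
        map_one' := LinearMap.ext fun x => by
          obtain ⟨x, rfl⟩ := Submodule.Quotient.mk_surjective U x
          simp [map_one ρ]
        map_mul' := fun a b => LinearMap.ext fun x => by
          obtain ⟨x, rfl⟩ := Submodule.Quotient.mk_surjective U x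
          simp [map_mul ρ] }
    have hmulp : ∀ h, LinearMap.charpoly (ρ h) =
        LinearMap.charpoly (ρ₁ h) * LinearMap.charpoly (ρ₂ h) :=
      fun h => charpoly_eq_mul_quotient (hU h)
    have hr1 : Module.finrank L U < Module.finrank L M := Submodule.finrank_lt hU1
    have hr2 : Module.finrank L (M ⧸ U) < Module.finrank L M := by
      have h1 := U.finrank_quotient_add_finrank
      have h2 : Module.finrank L U ≠ 0 := fun h => hU0 (Submodule.finrank_eq_zero.mp h)
      omega
    have g1 := ih _ (hn ▸ Nat.add_lt_add_left hr1 _) H U ρ₁ rfl fun h =>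
      Splits.of_dvd (hsp h) (LinearMap.charpoly_monic _).ne_zero ⟨_, hmulp h⟩
    have g2 := ih _ (hn ▸ Nat.add_lt_add_left hr2 _) H (M ⧸ U) ρ₂ rfl fun h =>
      Splits.of_dvd (hsp h) (LinearMap.charpoly_monic _).ne_zero ⟨_, (hmulp h).trans (mul_comm _ _)⟩
    have heq : (fun h => rootSum θ (ρ h)) =
        (fun h => rootSum θ (ρ₁ h)) + fun h => rootSum θ (ρ₂ h) := by
      funext h
      rw [Pi.add_apply, rootSum_eq, rootSum_eq, rootSum_eq, hmulp h,
        polySum_mul θ (LinearMap.charpoly_monic _) (LinearMap.charpoly_monic _)]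
    rw [heq]
    exact IsGeneralizedCharacter.add g1 g2
  push Not at hred
  by_cases hker : ρ.ker = ⊥
  swap
  · let σ : H ⧸ ρ.ker →* Module.End L M := QuotientGroup.lift ρ.ker ρ le_rfl
    have hlt : Nat.card (H ⧸ ρ.ker) < Nat.card H := by
      rw [Subgroup.card_eq_card_quotient_mul_card_subgroup ρ.ker]
      refine lt_mul_of_one_lt_right Nat.card_pos ?_
      exact (Subgroup.one_lt_card_iff_ne_bot _).mpr hker
    have g := ih _ (hn ▸ Nat.add_lt_add_right hlt _) (H ⧸ ρ.ker) M σ rfl fun x => by
      obtain ⟨h, rfl⟩ := QuotientGroup.mk_surjective x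
      exact hsp h
    exact IsGeneralizedCharacter.comp_hom g (QuotientGroup.mk' ρ.ker)
  have hfaith : Function.Injective ρ := (MonoidHom.ker_eq_bot_iff ρ).mp hker
  have hirr : ∀ U : Submodule L M, U ≠ ⊥ → (∀ h, ∀ x ∈ U, ρ h x ∈ U) → U = ⊤ := by
    intro U hU0 hU
    by_contra hU1
    obtain ⟨h, x, hx, hx'⟩ := hred U hU0 hU1
    exact hx' (hU h x hx)
  have heig : ∀ g, ∃ μ : L, μ ≠ 0 ∧ (ρ g).HasEigenvalue μ := by
    intro g
    obtain ⟨μ, hμ⟩ := (hsp g).exists_eval_eq_zero (fun h => hM (by
      rw [← LinearMap.charpoly_natDegree (ρ g), natDegree_eq_zero_iff_degree_le_zero, h]))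
    have hev := (Module.End.hasEigenvalue_iff_isRoot_charpoly _ μ).mpr hμ
    refine ⟨μ, fun h0 => ?_, hev⟩
    obtain ⟨v, hv⟩ := hev.exists_hasEigenvector
    have h1 := hv.apply_eq_smul
    rw [h0, zero_smul] at h1
    exact hv.2 (by rw [← rho_inv_apply ρ g v, h1, map_zero])
  have hschur : ∀ g, (∀ h, ρ g * ρ h = ρ h * ρ g) → ∃ μ : L, ∀ x, ρ g x = μ • x := by
    intro g hg
    obtain ⟨μ, -, hev⟩ := heig g
    refine ⟨μ, fun x => ?_⟩
    have htop := hirr ((ρ g).eigenspace μ) hev (fun h y hy => by
      rw [Module.End.mem_eigenspace_iff] at hy ⊢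
      rw [← Module.End.mul_apply, hg h, Module.End.mul_apply, hy, map_smul])
    exact Module.End.mem_eigenspace_iff.mp (htop ▸ Submodule.mem_top)
  by_cases hcomm : ∀ a b : H, a * b = b * a
  · have hsc : ∀ g, ∃ μ : L, ∀ x, ρ g x = μ • x :=
      fun g => hschur g fun h => by rw [← map_mul, ← map_mul, hcomm]
    choose c hc using hsc
    obtain ⟨v, hv⟩ := exists_ne (0 : M)
    have htop : (L ∙ v) = ⊤ := by
      refine hirr _ ?_ fun h x hx => ?_
      · rwa [ne_eq, Submodule.span_singleton_eq_bot]
      · rw [hc h x]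
        exact Submodule.smul_mem _ _ hx
    have hd1 : Module.finrank L M = 1 := by
      rw [← finrank_top L M, ← htop, finrank_span_singleton hv]
    have hcinj : ∀ a b : L, a • v = b • v → a = b := fun a b h => smul_left_injective L hv h
    have hcm : ∀ g h, c (g * h) = c g * c h := fun g h => hcinj _ _ (by
      rw [← hc, map_mul, Module.End.mul_apply, hc h, map_smul, hc g, smul_smul, mul_comm])
    have hc1 : c 1 = 1 := hcinj _ _ (by rw [← hc, map_one, Module.End.one_apply, one_smul])
    have hc0 : ∀ g, c g ≠ 0 := fun g h0 => one_ne_zero (α := L) (by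
      rw [← hc1, ← mul_inv_cancel g, hcm, h0, zero_mul])
    let f : H →* ℂ :=
      { toFun := fun g => θ (c g)
        map_one' := by rw [hc1, hone]
        map_mul' := fun a b => by rw [hcm, hmul _ _ (hc0 a) (hc0 b)] }
    have heq : (fun h => rootSum θ (ρ h)) = fun h => ((f.toHomUnits h : ℂˣ) : ℂ) := by
      funext h
      have hroot : c h ∈ (LinearMap.charpoly (ρ h)).roots := by
        rw [mem_roots (LinearMap.charpoly_monic _).ne_zero,
          ← Module.End.hasEigenvalue_iff_isRoot_charpoly]
        exact Module.End.hasEigenvalue_of_hasEigenvector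
          ⟨Module.End.mem_eigenspace_iff.mpr (hc h v), hv⟩
      have hcard : (LinearMap.charpoly (ρ h)).roots.card = 1 := by
        rw [← (hsp h).natDegree_eq_card_roots, LinearMap.charpoly_natDegree, hd1]
      obtain ⟨a, ha⟩ := Multiset.card_eq_one.mp hcard
      rw [ha, Multiset.mem_singleton] at hroot
      rw [rootSum_eq, polySum_self, ha, ← hroot]
      simp [f]
    rw [heq]
    exact IsCharacter.isGeneralized (isCharacter_linear f.toHomUnits)
  -- the monomial case
  have : Nontrivial (H ⧸ Subgroup.center H) := by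
    rw [← not_subsingleton_iff_nontrivial]
    intro hs
    apply hcomm
    intro a b
    have ha : a ∈ Subgroup.center H := (QuotientGroup.eq_one_iff a).mp (Subsingleton.elim _ _)
    exact (Subgroup.mem_center_iff.mp ha b).symm
  obtain ⟨xb, hxb, hxb1⟩ := (Subgroup.bot_or_exists_ne_one
    (Subgroup.center (H ⧸ Subgroup.center H))).resolve_left (Group.IsNilpotent.center_ne_bot _)
  obtain ⟨x, rfl⟩ := QuotientGroup.mk_surjective xb
  have hx : x ∉ Subgroup.center H := fun h => hxb1 ((QuotientGroup.eq_one_iff x).mpr h)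
  have hcent : ∀ h, x * h * x⁻¹ * h⁻¹ ∈ Subgroup.center H := fun h => by
    rw [← QuotientGroup.eq_one_iff]
    rw [QuotientGroup.mk_mul, QuotientGroup.mk_mul, QuotientGroup.mk_mul, QuotientGroup.mk_inv,
      QuotientGroup.mk_inv, ← Subgroup.mem_center_iff.mp hxb (h : H ⧸ Subgroup.center H)]
    group
  have hlam : ∀ h, ∃ μ : L, ∀ y, ρ (x * h * x⁻¹ * h⁻¹) y = μ • y := fun h =>
    hschur _ fun k => by rw [← map_mul, ← map_mul, Subgroup.mem_center_iff.mp (hcent h) k]
  choose lam hlam' using hlam
  have hconj : ∀ h, ρ (x * h * x⁻¹) = lam h • ρ h := fun h => LinearMap.ext fun y => by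
    rw [LinearMap.smul_apply, ← hlam' h, ← Module.End.mul_apply, ← map_mul]
    group
  obtain ⟨v, hv⟩ := exists_ne (0 : M)
  have hne : ∀ h, ρ h v ≠ 0 := fun h h0 => hv (by rw [← rho_inv_apply ρ h v, h0, map_zero])
  have hlm : ∀ g h, lam (g * h) = lam g * lam h := fun g h => by
    apply smul_left_injective L (hne (g * h))
    show lam (g * h) • ρ (g * h) v = (lam g * lam h) • ρ (g * h) v
    rw [← LinearMap.smul_apply, ← hconj, show x * (g * h) * x⁻¹ = (x * g * x⁻¹) * (x * h * x⁻¹) by group,
      map_mul, hconj, hconj, map_mul ρ g h, Module.End.mul_apply, LinearMap.smul_apply,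
      LinearMap.smul_apply, map_smul, Module.End.mul_apply, smul_smul]
  have hl1 : lam 1 = 1 := smul_left_injective L (hne 1) (by
    show lam 1 • ρ 1 v = (1 : L) • ρ 1 v
    rw [← LinearMap.smul_apply, ← hconj, mul_one, mul_inv_cancel, one_smul])
  have hl0 : ∀ h, lam h ≠ 0 := fun h h0 => one_ne_zero (α := L) (by
    rw [← hl1, ← mul_inv_cancel h, hlm, h0, zero_mul])
  let l : H →* L := { toFun := lam, map_one' := hl1, map_mul' := hlm }
  set T := l.ker with hTdef
  have hmemT : ∀ h, h ∈ T ↔ lam h = 1 := fun h => MonoidHom.mem_ker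
  have hTne : T ≠ ⊤ := by
    intro hT
    apply hx
    rw [Subgroup.mem_center_iff]
    intro h
    have h1 : x * h * x⁻¹ = h := hfaith (by
      rw [hconj, (hmemT h).mp (hT ▸ Subgroup.mem_top h), one_smul])
    conv_lhs => rw [← h1]
    group
  obtain ⟨μ₀, hμ₀, hev⟩ := heig x
  let E : L → Submodule L M := fun μ => (ρ x).eigenspace μ
  have hmap : ∀ h μ, ∀ y ∈ E μ, ρ h y ∈ E (lam h * μ) := by
    intro h μ y hy
    simp only [E, Module.End.mem_eigenspace_iff] at hy ⊢
    rw [← Module.End.mul_apply, ← map_mul,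
      show x * h = (x * h * x⁻¹) * x by group, map_mul, Module.End.mul_apply, hy, map_smul, hconj,
      LinearMap.smul_apply, smul_smul, mul_comm]
  let I : Finset L := univ.image lam
  let S : Submodule L M := I.sup fun c => E (c * μ₀)
  have hStop : S = ⊤ := by
    refine hirr S (fun h => hev ?_) fun h => ?_
    · rw [eq_bot_iff]
      have : E (1 * μ₀) ≤ S :=
        Finset.le_sup (f := fun c => E (c * μ₀)) (by rw [← hl1]; exact mem_image_of_mem _ (mem_univ _))
      rw [one_mul, h] at this
      exact this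
    · suffices S ≤ S.comap (ρ h) from fun y hy => this hy
      refine Finset.sup_le fun c hc y hy => ?_
      obtain ⟨g, -, rfl⟩ := mem_image.mp hc
      rw [Submodule.mem_comap]
      have h1 := hmap h _ y hy
      rw [← mul_assoc, ← hlm] at h1
      exact Finset.le_sup (f := fun c => E (c * μ₀)) (mem_image_of_mem _ (mem_univ (h * g))) h1
  let ρ₀ : T →* Module.End L (E μ₀) :=
    { toFun := fun t => (ρ (t : H)).restrict fun y hy => by
        have := hmap (t : H) μ₀ y hy
        rwa [(hmemT _).mp t.2, one_mul] at this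
      map_one' := LinearMap.ext fun y => Subtype.ext (by simp [map_one ρ])
      map_mul' := fun a b => LinearMap.ext fun y => Subtype.ext (by simp [map_mul ρ]) }
  have hTcard : Nat.card T < Nat.card H := by
    rw [← T.card_mul_index]
    refine lt_mul_of_one_lt_right Nat.card_pos ?_
    have := T.index_ne_zero_of_finite
    have : T.index ≠ 1 := fun h => hTne (Subgroup.index_eq_one.mp h)
    omega
  have hTE : ∀ t : T, ∀ y ∈ E μ₀, ρ (t : H) y ∈ E μ₀ := fun t y hy => by
    have := hmap (t : H) μ₀ y hy
    rwa [(hmemT _).mp t.2, one_mul] at this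
  have g₀ := ih _ (hn ▸ Nat.add_lt_add_of_lt_of_le hTcard (Submodule.finrank_le _)) T (E μ₀) ρ₀ rfl
    fun t => Splits.of_dvd (hsp _) (LinearMap.charpoly_monic _).ne_zero
      ⟨LinearMap.charpoly ((E μ₀).mapQ (E μ₀) (ρ (t : H)) (hTE t)),
        charpoly_eq_mul_quotient (hTE t)⟩
  have heq : (fun h => rootSum θ (ρ h)) = Cfsg.indFun T (fun t => rootSum θ (ρ₀ t)) := by
    funext h
    by_cases hT : h ∈ T
    swap
    · rw [indFun_normal_not_mem T _ hT]
      have hlne : lam h ≠ 1 := fun h1 => hT ((hmemT h).mpr h1)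
      have hcp : LinearMap.charpoly (ρ h) = LinearMap.charpoly (lam h • ρ h) := by
        rw [← hconj]
        let e : M ≃ₗ[L] M :=
          LinearEquiv.ofLinear (ρ x) (ρ x⁻¹)
            (by rw [← Module.End.mul_eq_comp, ← map_mul, mul_inv_cancel, map_one]; rfl)
            (by rw [← Module.End.mul_eq_comp, ← map_mul, inv_mul_cancel, map_one]; rfl)
        refine (charpoly_intertwine e fun y => ?_).symm
        show ρ (x * h * x⁻¹) (ρ x y) = ρ x (ρ h y)
        rw [← Module.End.mul_apply, ← map_mul, ← Module.End.mul_apply, ← map_mul]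
        congr 1
        group
      have hr0 : ∀ a ∈ (LinearMap.charpoly (ρ h)).roots, a ≠ 0 := by
        intro a ha h0
        rw [mem_roots (LinearMap.charpoly_monic _).ne_zero,
          ← Module.End.hasEigenvalue_iff_isRoot_charpoly] at ha
        obtain ⟨y, hy⟩ := ha.exists_hasEigenvector
        have h1 := hy.apply_eq_smul
        rw [h0, zero_smul] at h1
        exact hy.2 (by rw [← rho_inv_apply ρ h y, h1, map_zero])
      have hs : rootSum θ (ρ h) = θ (lam h) * rootSum θ (ρ h) := by
        conv_lhs => rw [rootSum_eq, polySum_self, hcp, charpoly_roots_smul _ (hl0 h),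
          Multiset.map_map]
        rw [rootSum_eq, polySum_self, ← Multiset.sum_map_mul_left]
        congr 1
        exact Multiset.map_congr rfl fun a ha => hmul _ _ (hl0 h) (hr0 a ha)
      have hθ : θ (lam h) ≠ 1 := fun h1 => hlne (hinj _ (hl0 h) h1)
      by_contra h0
      exact hθ ((mul_eq_right₀ h0).mp hs.symm)
    · have hn' := indFun_normal_mem T (fun t => rootSum θ (ρ₀ t)) ⟨h, hT⟩
      rw [hn']
      have hhE : ∀ c, ∀ y ∈ E c, ρ h y ∈ E c := fun c y hy => by
        have := hmap h c y hy
        rwa [(hmemT h).mp hT, one_mul] at this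
      have hterm : ∀ g : H, rootSum θ (ρ₀ ⟨g * h * g⁻¹, MonoidHom.normal_ker l |>.conj_mem h hT g⟩) =
          wSub θ (ρ h) (E (lam g⁻¹ * μ₀)) := by
        intro g
        have hmE : (E μ₀).map (ρ g⁻¹) = E (lam g⁻¹ * μ₀) := by
          refine le_antisymm ?_ fun y hy => ⟨ρ g y, ?_, rho_inv_apply ρ g y⟩
          · rintro _ ⟨y, hy, rfl⟩
            exact hmap _ _ y hy
          · have := hmap g _ y hy
            rwa [← mul_assoc, ← hlm, mul_inv_cancel, hl1, one_mul] at this
        have hg : ∀ y ∈ E μ₀, ρ (g * h * g⁻¹) y ∈ E μ₀ := fun y hy => by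
          have := hmap (g * h * g⁻¹) μ₀ y hy
          rwa [(hmemT _).mp (MonoidHom.normal_ker l |>.conj_mem h hT g), one_mul] at this
        rw [← hmE, wSub_map θ (ρ g⁻¹)
          (fun a b hab => by simpa [← Module.End.mul_apply, ← map_mul] using congrArg (ρ g) hab)
          (g := ρ (g * h * g⁻¹)) (fun y => by
            rw [← Module.End.mul_apply, ← map_mul, ← Module.End.mul_apply, ← map_mul]
            congr 1
            group) hg, wSub_eq θ hg]
        rfl
      rw [sum_congr rfl fun g _ => hterm g]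
      have hinv : ∑ g : H, wSub θ (ρ h) (E (lam g⁻¹ * μ₀)) =
          ∑ g : H, wSub θ (ρ h) (E (lam g * μ₀)) :=
        Fintype.sum_equiv (Equiv.inv H) _ _ fun g => rfl
      rw [hinv, ← Finset.sum_fiberwise_of_maps_to (t := I) (g := lam)
        (fun g _ => mem_image_of_mem _ (mem_univ g))]
      have hfib : ∀ c ∈ I, ∑ g ∈ univ.filter (fun g => lam g = c), wSub θ (ρ h) (E (lam g * μ₀)) =
          (Nat.card T : ℂ) * wSub θ (ρ h) (E (c * μ₀)) := by
        intro c hc
        obtain ⟨g₀, -, rfl⟩ := mem_image.mp hc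
        rw [sum_congr rfl fun g hg => by rw [(mem_filter.mp hg).2], sum_const, nsmul_eq_mul]
        congr 1
        rw [← Fintype.card_subtype, ← Nat.card_eq_fintype_card]
        norm_cast
        refine Nat.card_congr
          { toFun := fun g => ⟨g₀⁻¹ * g.1, (hmemT _).mpr (by
              rw [hlm, g.2, ← hlm, inv_mul_cancel, hl1])⟩
            invFun := fun t => ⟨g₀ * t.1, by rw [hlm, (hmemT _).mp t.2, mul_one]⟩
            left_inv := fun g => by simp
            right_inv := fun t => by simp }
      rw [sum_congr rfl hfib, ← mul_sum, ← mul_assoc,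
        inv_mul_cancel₀ (by exact_mod_cast Nat.card_pos.ne'), one_mul]
      have hsup : ∀ s : Finset L, s ⊆ I → wSub θ (ρ h) (s.sup fun c => E (c * μ₀)) =
          ∑ c ∈ s, wSub θ (ρ h) (E (c * μ₀)) := by
        intro s
        induction s using Finset.induction with
        | empty =>
          intro _
          rw [Finset.sup_empty, Finset.sum_empty, wSub_eq θ (fun y hy => by
            rw [(Submodule.mem_bot L).mp hy, map_zero]; exact Submodule.zero_mem _), rootSum_eq,
            (LinearMap.charpoly_monic _).natDegree_eq_zero.mp (by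
              rw [LinearMap.charpoly_natDegree, finrank_bot]), polySum_self]
          simp
        | insert a s has ihs =>
          intro hsI
          have hinvs : ∀ y ∈ s.sup (fun c => E (c * μ₀)), ρ h y ∈ s.sup (fun c => E (c * μ₀)) := by
            suffices s.sup (fun c => E (c * μ₀)) ≤ (s.sup (fun c => E (c * μ₀))).comap (ρ h) from
              fun y hy => this hy
            refine Finset.sup_le fun c hc y hy => ?_
            exact Finset.le_sup (f := fun c => E (c * μ₀)) hc (hhE _ y hy)
          have hind : iSupIndep fun c => E (c * μ₀) :=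
            (ρ x).eigenspaces_iSupIndep.comp (mul_left_injective₀ hμ₀)
          have hdisj : Disjoint (E (a * μ₀)) (s.sup fun c => E (c * μ₀)) := by
            rw [Finset.sup_eq_iSup]
            exact hind.disjoint_biSup (y := (s : Set L)) has
          rw [Finset.sup_insert, Finset.sum_insert has,
            wSub_sup θ (hhE _) hinvs hdisj, ihs ((subset_insert a s).trans hsI)]
      rw [← hsup I subset_rfl, show I.sup (fun c => E (c * μ₀)) = ⊤ from hStop, wSub_top]
  rw [heq]
  exact IsGeneralizedCharacter.indFun g₀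

variable {F : Type w} [Field F] [Algebra F L]

/-- The Brauer lift of the natural module is a generalized character. -/
theorem isGeneralized_rootSum [Finite F]
    (hmul : ∀ a b, a ≠ 0 → b ≠ 0 → θ (a * b) = θ a * θ b) (hone : θ 1 = 1)
    (hinj : ∀ a, a ≠ 0 → θ a = 1 → a = 1) (V : Type v) [AddCommGroup V] [Module F V] [Finite V]
    (hsplit : ∀ f : Module.End F V, ((LinearMap.charpoly f).map (algebraMap F L)).Splits) :
    Cfsg.IsGeneralizedCharacter (Module.End F V)ˣ
      (fun g => rootSum θ (g : Module.End F V)) := by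
  refine Cfsg.Lib.Blocks.isGeneralized_of_elementary ?_ ?_
  · intro g h
    simp only [rootSum_eq]
    congr 1
    exact charpoly_intertwine (LinearMap.GeneralLinearGroup.toLinearEquiv h) fun y => by
      show (((h * g * h⁻¹ : (Module.End F V)ˣ) : Module.End F V)) ((h : Module.End F V) y) =
        (h : Module.End F V) ((g : Module.End F V) y)
      rw [Units.val_mul, Units.val_mul, ← Module.End.mul_apply, mul_assoc, Units.inv_mul, mul_one]
      rfl
  · rintro E ⟨p, hp, hE⟩
    haveI := Cfsg.Lib.Blocks.isNilpotent_of_isElementary hp hE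
    let b := Module.Free.chooseBasis F V
    let ι := Module.Free.ChooseBasisIndex F V
    let ρ : E →* Module.End L (ι → L) :=
      (Matrix.toLinAlgEquiv' (R := L) (n := ι)).toMulEquiv.toMonoidHom.comp
        (((algebraMap F L).mapMatrix.toMonoidHom).comp
          (((LinearMap.toMatrixAlgEquiv b).toMulEquiv.toMonoidHom).comp
            ((Units.coeHom (Module.End F V)).comp E.subtype)))
    have hcp : ∀ g : E, LinearMap.charpoly (ρ g) =
        (LinearMap.charpoly ((g : (Module.End F V)ˣ) : Module.End F V)).map (algebraMap F L) := by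
      intro g
      rw [← LinearMap.charpoly_toMatrix ((g : (Module.End F V)ˣ) : Module.End F V) b,
        ← Matrix.charpoly_map, ← LinearMap.charpoly_toMatrix (ρ g) (Pi.basisFun L ι)]
      congr 1
      rw [LinearMap.toMatrix_eq_toMatrix']
      exact LinearMap.toMatrix'_toLin' _
    have h := isGeneralized_rootSum_nilpotent θ hmul hone hinj _ E (ι → L) ρ rfl
      fun g => hcp g ▸ hsplit _
    convert h using 1
    funext g
    rw [rootSum_eq, rootSum_eq, hcp, polySum_self]
    rfl

end Cfsg.Lib.Cuspidal
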