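import Cfsg.Agent.Cuspidal.BrauerLift

/-!
# Sums over the subspaces of a given dimension
-/

set_option autoImplicit false

namespace Cfsg.Lib.Cuspidal

attribute [local instance] Fintype.ofFinite

open scoped Classical
open Finset Polynomial Cfsg.Lib.Chars

universe u v w

variable {F : Type u} [Field F] {V : Type v} [AddCommGroup V] [Module F V]

/-- The stabiliser of a subspace in `GL(V)`. -/
def stab (U : Submodule F V) : Subgroup (Module.End F V)ˣ where
  carrier := {g | U.map (g : Module.End F V) = U}
  one_mem' := by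
    show U.map ((1 : (Module.End F V)ˣ) : Module.End F V) = U
    rw [Units.val_one, Module.End.one_eq_id, Submodule.map_id]
  mul_mem' := fun {a b} ha hb => by
    show U.map ((a * b : (Module.End F V)ˣ) : Module.End F V) = U
    rw [Units.val_mul, Module.End.mul_eq_comp, Submodule.map_comp,
      show U.map (b : Module.End F V) = U from hb, show U.map (a : Module.End F V) = U from ha]
  inv_mem' := fun {a} ha => by
    show U.map ((a⁻¹ : (Module.End F V)ˣ) : Module.End F V) = U
    conv_lhs => rw [← show U.map (a : Module.End F V) = U from ha]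
    rw [← Submodule.map_comp, ← Module.End.mul_eq_comp, Units.inv_mul, Module.End.one_eq_id,
      Submodule.map_id]

theorem mem_stab {U : Submodule F V} {g : (Module.End F V)ˣ} :
    g ∈ stab U ↔ U.map (g : Module.End F V) = U := Iff.rfl

theorem stab_apply_mem {U : Submodule F V} (g : stab U) :
    ∀ x ∈ U, ((g : (Module.End F V)ˣ) : Module.End F V) x ∈ U := fun x hx =>
  le_of_eq (mem_stab.mp g.2) ⟨x, hx, rfl⟩

theorem units_injective (g : (Module.End F V)ˣ) : Function.Injective (g : Module.End F V) :=
  ((Module.End.isUnit_iff _).mp g.isUnit).injective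

theorem mem_stab_iff [Finite V] {U : Submodule F V} {g : (Module.End F V)ˣ} :
    g ∈ stab U ↔ ∀ x ∈ U, (g : Module.End F V) x ∈ U := by
  refine ⟨fun h => stab_apply_mem ⟨g, h⟩, fun h => ?_⟩
  refine Submodule.eq_of_le_of_finrank_eq ?_ ?_
  · rintro _ ⟨x, hx, rfl⟩
    exact h x hx
  · exact ((Submodule.equivMapOfInjective _ (units_injective g) U).finrank_eq).symm

/-- The restriction of the stabiliser to the subspace. -/
noncomputable def resEnd (U : Submodule F V) : stab U →* Module.End F U where
  toFun g := ((g : (Module.End F V)ˣ) : Module.End F V).restrict (stab_apply_mem g)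
  map_one' := rfl
  map_mul' _ _ := rfl

theorem exists_units_map [Finite V] {U U' : Submodule F V}
    (h : Module.finrank F U = Module.finrank F U') :
    ∃ g : (Module.End F V)ˣ, U.map (g : Module.End F V) = U' := by
  obtain ⟨C, hC⟩ := U.exists_isCompl
  obtain ⟨C', hC'⟩ := U'.exists_isCompl
  have hc : Module.finrank F C = Module.finrank F C' := by
    have h1 := Submodule.finrank_add_eq_of_isCompl hC
    have h2 := Submodule.finrank_add_eq_of_isCompl hC'
    omega
  let e : V ≃ₗ[F] V := (Submodule.prodEquivOfIsCompl U C hC).symm.trans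
    ((LinearEquiv.prodCongr (LinearEquiv.ofFinrankEq U U' h) (LinearEquiv.ofFinrankEq C C' hc)).trans
      (Submodule.prodEquivOfIsCompl U' C' hC'))
  refine ⟨LinearMap.GeneralLinearGroup.ofLinearEquiv e, ?_⟩
  refine Submodule.eq_of_le_of_finrank_eq ?_ ?_
  · rintro _ ⟨x, hx, rfl⟩
    show e x ∈ U'
    have : (Submodule.prodEquivOfIsCompl U C hC).symm x = (⟨x, hx⟩, 0) :=
      Submodule.prodEquivOfIsCompl_symm_apply_left U C hC ⟨x, hx⟩
    simp [e, this]
  · rw [← h]
    exact ((Submodule.equivMapOfInjective _ (units_injective _) U).finrank_eq).symm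

/-- A sum over `GL(V)` of a function of the image of a subspace. -/
theorem sum_map_eq [Finite V] (U : Submodule F V) (f : Submodule F V → ℂ) :
    ∑ x : (Module.End F V)ˣ, f (U.map (x : Module.End F V)) =
      (Nat.card (stab U) : ℂ) *
        ∑ U' ∈ univ.filter (fun U' : Submodule F V => Module.finrank F U' = Module.finrank F U),
          f U' := by
  rw [← Finset.sum_fiberwise_of_maps_to
    (t := univ.filter fun U' : Submodule F V => Module.finrank F U' = Module.finrank F U)
    (g := fun x : (Module.End F V)ˣ => U.map (x : Module.End F V)) (fun x _ => by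
      simp only [mem_filter, mem_univ, true_and]
      exact ((Submodule.equivMapOfInjective _ (units_injective x) U).finrank_eq).symm), mul_sum]
  refine sum_congr rfl fun U' hU' => ?_
  rw [sum_congr rfl fun x hx => by rw [(mem_filter.mp hx).2], sum_const, nsmul_eq_mul]
  congr 1
  obtain ⟨g, hg⟩ := exists_units_map (mem_filter.mp hU').2.symm
  rw [← Fintype.card_subtype, ← Nat.card_eq_fintype_card]
  norm_cast
  refine Nat.card_congr
    { toFun := fun x => ⟨g⁻¹ * x.1, by
        rw [mem_stab, Units.val_mul, Module.End.mul_eq_comp, Submodule.map_comp, x.2, ← hg,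
          ← Submodule.map_comp, ← Module.End.mul_eq_comp, Units.inv_mul, Module.End.one_eq_id,
          Submodule.map_id]⟩
      invFun := fun h => ⟨g * h.1, by
        rw [Units.val_mul, Module.End.mul_eq_comp, Submodule.map_comp, mem_stab.mp h.2, hg]⟩
      left_inv := fun x => by simp
      right_inv := fun h => by simp }

theorem card_stab_mul [Finite V] (U : Submodule F V) :
    (Nat.card (stab U) : ℂ) *
      ((univ.filter fun U' : Submodule F V => Module.finrank F U' = Module.finrank F U).card : ℂ) =
      (Nat.card (Module.End F V)ˣ : ℂ) := by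
  have h := sum_map_eq U fun _ => 1
  simp only [sum_const, card_univ, nsmul_eq_mul, mul_one] at h
  rw [← h, Nat.card_eq_fintype_card (α := (Module.End F V)ˣ)]

theorem resEnd_toHomUnits_surjective [Finite V] (U : Submodule F V) :
    Function.Surjective (resEnd U).toHomUnits := by
  intro h
  obtain ⟨C, hC⟩ := U.exists_isCompl
  let e : V ≃ₗ[F] V := (Submodule.prodEquivOfIsCompl U C hC).symm.trans
    ((LinearEquiv.prodCongr (LinearMap.GeneralLinearGroup.toLinearEquiv h) (LinearEquiv.refl F C)).trans
      (Submodule.prodEquivOfIsCompl U C hC))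
  have he : ∀ x : U, e x = ((h : Module.End F U) x : V) := fun x => by
    have h2 := Submodule.prodEquivOfIsCompl_symm_apply_left U C hC x
    simp [e, h2, LinearMap.GeneralLinearGroup.toLinearEquiv]
  refine ⟨⟨LinearMap.GeneralLinearGroup.ofLinearEquiv e, mem_stab_iff.mpr fun x hx => ?_⟩,
    Units.ext (LinearMap.ext fun x => Subtype.ext (he x))⟩
  show e x ∈ U
  rw [show e x = _ from he ⟨x, hx⟩]
  exact ((h : Module.End F U) ⟨x, hx⟩).2

theorem sum_stab_resEnd [Finite V] (U : Submodule F V) (f : Module.End F U → ℂ) :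
    (Nat.card (Module.End F U)ˣ : ℂ) * ∑ h : stab U, f (resEnd U h) =
      (Nat.card (stab U) : ℂ) * ∑ h : (Module.End F U)ˣ, f (h : Module.End F U) := by
  set r := (resEnd U).toHomUnits with hr
  have hfib : ∀ y, (univ.filter fun h => r h = y).card = (univ.filter fun h => r h = 1).card :=
    fun y => MonoidHom.card_fiber_eq_of_mem_range r (resEnd_toHomUnits_surjective U y) ⟨1, map_one r⟩
  have h1 : ∀ f' : Module.End F U → ℂ, ∑ h : stab U, f' (resEnd U h) =
      ((univ.filter fun h => r h = 1).card : ℂ) * ∑ y : (Module.End F U)ˣ, f' (y : Module.End F U) := by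
    intro f'
    rw [← Finset.sum_fiberwise univ r, mul_sum]
    refine sum_congr rfl fun y _ => ?_
    rw [sum_congr rfl fun h hh => show f' (resEnd U h) = f' (y : Module.End F U) by
      rw [← (mem_filter.mp hh).2]; rfl, sum_const, nsmul_eq_mul, hfib y]
  have h2 := h1 fun _ => 1
  simp only [sum_const, card_univ, nsmul_eq_mul, mul_one] at h2
  rw [h1 f, Nat.card_eq_fintype_card (α := stab U), h2, Nat.card_eq_fintype_card]
  ring

set_option maxHeartbeats 800000 in
theorem sum_dimMob_units_aux : ∀ (n : ℕ) (V : Type v) [AddCommGroup V] [Module F V] [Finite V]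
    [Nontrivial V], Module.finrank F V = n →
    ∑ g : (Module.End F V)ˣ, dimMob (g : Module.End F V) = (Nat.card (Module.End F V)ˣ : ℂ) := by
  intro n
  induction n using Nat.strong_induction_on with
  | _ n ih =>
  intro V _ _ _ _ hn
  set G := (Module.End F V)ˣ with hG
  rw [sum_congr rfl fun (g : G) _ => dimMob_eq_sub (g : Module.End F V), sum_sub_distrib, sum_const,
    card_univ, nsmul_eq_mul, ← Nat.card_eq_fintype_card (α := G), sum_comm, hn]
  have hU : ∀ U : Submodule F V,
      (∑ g : G, if InvNZ (g : Module.End F V) U ∧ U < ⊤ then dimMobSub (g : Module.End F V) U else 0) =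
        if U ≠ ⊥ ∧ U < ⊤ then (Nat.card (stab U) : ℂ) else 0 := by
    intro U
    by_cases hU : U ≠ ⊥ ∧ U < ⊤
    swap
    · rw [if_neg hU]
      exact sum_eq_zero fun g _ => if_neg fun h => hU ⟨h.1.1, h.2⟩
    rw [if_pos hU]
    have : Nontrivial U := Submodule.nontrivial_iff_ne_bot.mpr hU.1
    have h1 := sum_stab_resEnd U (fun f => dimMob f)
    have h3 := ih _ (hn ▸ Submodule.finrank_lt hU.2.ne) U rfl
    have h2 : ∑ h : stab U, dimMob (resEnd U h) = (Nat.card (stab U) : ℂ) := by
      refine mul_left_cancel₀ (a := (Nat.card (Module.End F U)ˣ : ℂ))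
        (by exact_mod_cast Nat.card_pos.ne') ?_
      rw [h1, mul_comm (Nat.card (Module.End F U)ˣ : ℂ)]
      refine congrArg (fun z : ℂ => (Nat.card (stab U) : ℂ) * z) ?_
      exact (Finset.sum_congr (Finset.ext fun _ => by simp only [Finset.mem_univ]) fun _ _ => rfl).trans h3
    rw [← h2, ← Finset.sum_filter,
      Finset.sum_subtype (p := fun g : G => g ∈ stab U) _ (fun g => by
        rw [mem_stab_iff]
        exact ⟨fun h => (Finset.mem_filter.mp h).2.1.2,
          fun h => Finset.mem_filter.mpr ⟨mem_univ _, ⟨hU.1, h⟩, hU.2⟩⟩)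
        (fun g : G => dimMobSub (g : Module.End F V) U)]
    refine sum_congr rfl fun h _ => ?_
    exact dimMobSub_restrict ⟨hU.1, stab_apply_mem h⟩
  rw [sum_congr rfl fun U _ => hU U, ← Finset.sum_filter]
  have hmem : ∀ U : Submodule F V, (U ≠ ⊥ ∧ U < ⊤) ↔ Module.finrank F U ∈ Finset.Ico 1 n := by
    intro U
    rw [Finset.mem_Ico]
    constructor
    · rintro ⟨h1, h2⟩
      exact ⟨Nat.pos_of_ne_zero fun h => h1 (Submodule.finrank_eq_zero.mp h),
        hn ▸ Submodule.finrank_lt h2.ne⟩
    · rintro ⟨h1, h2⟩
      refine ⟨fun h => ?_, lt_top_iff_ne_top.mpr fun h => ?_⟩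
      · rw [h, finrank_bot] at h1; omega
      · rw [h, finrank_top] at h2; omega
  rw [← Finset.sum_fiberwise_of_maps_to (t := Finset.Ico 1 n)
    (g := fun U : Submodule F V => Module.finrank F U) (fun U hU => (hmem U).mp (mem_filter.mp hU).2)]
  have hm : ∀ m ∈ Finset.Ico 1 n, ∑ U ∈ (univ.filter fun U : Submodule F V => U ≠ ⊥ ∧ U < ⊤).filter
      (fun U : Submodule F V => Module.finrank F U = m), (Nat.card (stab U) : ℂ) = (Nat.card G : ℂ) := by
    intro m hm
    have hset : (univ.filter fun U : Submodule F V => U ≠ ⊥ ∧ U < ⊤).filter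
        (fun U : Submodule F V => Module.finrank F U = m) =
          univ.filter fun U : Submodule F V => Module.finrank F U = m := by
      ext U
      simp only [mem_filter, mem_univ, true_and, hmem U]
      exact ⟨fun h => h.2, fun h => ⟨h ▸ hm, h⟩⟩
    rw [hset]
    set s := univ.filter fun U : Submodule F V => Module.finrank F U = m with hs
    have hne : s.Nonempty := by
      rw [Finset.mem_Ico] at hm
      let b := Module.finBasisOfFinrankEq F V hn
      refine ⟨Submodule.span F (Set.range (b ∘ Fin.castLE hm.2.le)), ?_⟩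
      simp only [s, mem_filter, mem_univ, true_and]
      rw [finrank_span_eq_card (b.linearIndependent.comp _ (Fin.castLE_injective _)), Fintype.card_fin]
    have hc : ∀ U ∈ s, (Nat.card (stab U) : ℂ) = (Nat.card G : ℂ) / (s.card : ℂ) := by
      intro U hU
      have h := card_stab_mul U
      rw [(mem_filter.mp hU).2] at h
      rw [eq_div_iff (by exact_mod_cast hne.card_pos.ne')]
      exact h
    rw [sum_congr rfl hc, sum_const, nsmul_eq_mul, mul_div_assoc']
    field_simp [show (s.card : ℂ) ≠ 0 by exact_mod_cast hne.card_pos.ne']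
  rw [sum_congr rfl hm, sum_const, Nat.card_Ico, nsmul_eq_mul]
  have h1 : 1 ≤ n := hn ▸ Module.finrank_pos
  rw [Nat.cast_sub h1]
  push_cast
  ring

theorem sum_dimMob_units [Finite V] [Nontrivial V] :
    ∑ g : (Module.End F V)ˣ, dimMob (g : Module.End F V) = (Nat.card (Module.End F V)ˣ : ℂ) :=
  sum_dimMob_units_aux _ V rfl

theorem isGeneralized_cusp_aux [Finite F] {L : Type w} [Field L] [Algebra F L] (θ : L → ℂ)
    (hmul : ∀ a b, a ≠ 0 → b ≠ 0 → θ (a * b) = θ a * θ b) (hone : θ 1 = 1)
    (hinj : ∀ a, a ≠ 0 → θ a = 1 → a = 1) {D : ℕ}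
    (hsplit : ∀ p : F[X], p.Monic → p.natDegree ≤ D → (p.map (algebraMap F L)).Splits) :
    ∀ (n : ℕ) (V : Type v) [AddCommGroup V] [Module F V] [Finite V] [Nontrivial V],
      Module.finrank F V = n → n ≤ D →
      Cfsg.IsGeneralizedCharacter (Module.End F V)ˣ (fun g => cusp θ (g : Module.End F V)) := by
  intro n
  induction n using Nat.strong_induction_on with
  | _ n ih =>
  intro V _ _ _ _ hn hD
  set G := (Module.End F V)ˣ with hG
  have hbase := isGeneralized_rootSum θ hmul hone hinj V fun f =>
    hsplit _ (LinearMap.charpoly_monic f) (by rw [LinearMap.charpoly_natDegree, hn]; exact hD)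
  let part : ℕ → G → ℂ := fun m g =>
    ∑ U ∈ univ.filter (fun U : Submodule F V => Module.finrank F U = m),
      if InvNZ (g : Module.End F V) U then subMob (g : Module.End F V) (wSub θ (g : Module.End F V)) U
      else 0
  have hpart : ∀ m ∈ Finset.Ico 1 n, Cfsg.IsGeneralizedCharacter G (part m) := by
    intro m hm
    rw [Finset.mem_Ico] at hm
    let b := Module.finBasisOfFinrankEq F V hn
    set U₀ := Submodule.span F (Set.range (b ∘ Fin.castLE hm.2.le)) with hU₀def
    have hU₀ : Module.finrank F U₀ = m := by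
      rw [hU₀def, finrank_span_eq_card (b.linearIndependent.comp _ (Fin.castLE_injective _)),
        Fintype.card_fin]
    have hne : U₀ ≠ ⊥ := fun h => by rw [h, finrank_bot] at hU₀; omega
    have : Nontrivial U₀ := Submodule.nontrivial_iff_ne_bot.mpr hne
    have g₀ := IsGeneralizedCharacter.comp_hom (ih m hm.2 U₀ hU₀ (hm.2.le.trans hD))
      (resEnd U₀).toHomUnits
    have g₁ := IsGeneralizedCharacter.indFun g₀
    convert g₁ using 1
    funext g
    rw [indFun_apply]
    let Ff : Submodule F V → ℂ := fun U =>
      if InvNZ (g : Module.End F V) U then subMob (g : Module.End F V) (wSub θ (g : Module.End F V)) U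
      else 0
    have hterm : ∀ x : G, Cfsg.extendByZero (stab U₀)
        (fun h => cusp θ (((resEnd U₀).toHomUnits h : (Module.End F U₀)ˣ) : Module.End F U₀))
        (x⁻¹ * g * x) = Ff (U₀.map (x : Module.End F V)) := by
      intro x
      have hconj : ∀ y, (g : Module.End F V) ((x : Module.End F V) y) =
          (x : Module.End F V) (((x⁻¹ * g * x : G) : Module.End F V) y) := by
        intro y
        rw [← Module.End.mul_apply, ← Module.End.mul_apply, ← Units.val_mul, ← Units.val_mul]
        congr 2
        rw [← mul_assoc, ← mul_assoc, mul_inv_cancel, one_mul]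
      by_cases hx : x⁻¹ * g * x ∈ stab U₀
      · rw [extendByZero_mem _ hx]
        have hi : InvNZ ((x⁻¹ * g * x : G) : Module.End F V) U₀ := ⟨hne, stab_apply_mem ⟨_, hx⟩⟩
        have hi' : InvNZ (g : Module.End F V) (U₀.map (x : Module.End F V)) := by
          refine ⟨fun h => hne (Submodule.map_injective_of_injective (units_injective x)
            (h.trans (Submodule.map_bot _).symm)), ?_⟩
          rintro _ ⟨y, hy, rfl⟩
          exact ⟨_, hi.2 y hy, (hconj y).symm⟩
        simp only [Ff, if_pos hi']
        rw [subMob_map (x : Module.End F V) (units_injective x) hconj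
          (s := wSub θ ((x⁻¹ * g * x : G) : Module.End F V)) 1 (fun a ha => by
            rw [one_mul, wSub_map θ _ (units_injective x) hconj ha.2]) hi, one_mul,
          subMob_wSub_restrict θ hi]
        rfl
      · rw [extendByZero_not_mem _ hx]
        refine (if_neg fun hi' => hx ?_).symm
        rw [mem_stab_iff]
        intro y hy
        obtain ⟨z, hz, hzy⟩ := hi'.2 ((x : Module.End F V) y) ⟨y, hy, rfl⟩
        rw [hconj] at hzy
        rwa [← units_injective x hzy]
    rw [sum_congr rfl fun x _ => hterm x, sum_map_eq U₀ Ff, ← mul_assoc,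
      inv_mul_cancel₀ (by exact_mod_cast Nat.card_pos.ne'), one_mul, hU₀]
  have heq : (fun g : G => cusp θ (g : Module.End F V)) =
      (fun g : G => rootSum θ (g : Module.End F V)) - ∑ m ∈ Finset.Ico 1 n, part m := by
    funext g
    rw [Pi.sub_apply, Finset.sum_apply, cusp_eq_sub]
    congr 1
    rw [← Finset.sum_filter]
    simp only [part]
    rw [← Finset.sum_fiberwise_of_maps_to (t := Finset.Ico 1 n)
      (g := fun U : Submodule F V => Module.finrank F U) (fun U hU => ?_)]
    · refine sum_congr rfl fun m hm => ?_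
      rw [← Finset.sum_filter]
      refine sum_congr ?_ fun _ _ => rfl
      ext U
      simp only [mem_filter, mem_univ, true_and]
      refine ⟨fun h => ⟨h.2, h.1.1⟩, fun h => ⟨⟨h.2, lt_top_iff_ne_top.mpr fun hU => ?_⟩, h.1⟩⟩
      rw [hU, finrank_top, hn] at h
      rw [Finset.mem_Ico] at hm
      omega
    · simp only [mem_filter, mem_univ, true_and] at hU
      rw [Finset.mem_Ico]
      exact ⟨Nat.pos_of_ne_zero fun h => hU.1.1 (Submodule.finrank_eq_zero.mp h),
        hn ▸ Submodule.finrank_lt hU.2.ne⟩
  rw [heq]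
  exact IsGeneralizedCharacter.sub hbase (IsGeneralizedCharacter.sum _ _ hpart)

/-- The inversion of the Brauer lift is a generalized character. -/
theorem isGeneralized_cusp [Finite F] [Finite V] [Nontrivial V] {L : Type w} [Field L] [Algebra F L]
    (θ : L → ℂ) (hmul : ∀ a b, a ≠ 0 → b ≠ 0 → θ (a * b) = θ a * θ b) (hone : θ 1 = 1)
    (hinj : ∀ a, a ≠ 0 → θ a = 1 → a = 1)
    (hsplit : ∀ p : F[X], p.Monic → p.natDegree ≤ Module.finrank F V →
      (p.map (algebraMap F L)).Splits) :
    Cfsg.IsGeneralizedCharacter (Module.End F V)ˣ (fun g => cusp θ (g : Module.End F V)) :=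
  isGeneralized_cusp_aux θ hmul hone hinj hsplit _ V rfl le_rfl

end Cfsg.Lib.Cuspidal
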