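import Cfsg.Agent.Cuspidal.Model
import Cfsg.Agent.Cuspidal.Orbit

/-!
# Decomposition over the torus and inner products
-/

set_option autoImplicit false

namespace Cfsg.Lib.Cuspidal

attribute [local instance] Fintype.ofFinite

open scoped Classical
open Finset Polynomial

universe u v w

variable {F : Type u} [Field F] [Finite F] {L : Type w} [Field L] [Algebra F L] [Finite L]

theorem splits_of_dvd_finrank (π : F[X]) (hπi : Irreducible π)
    (hd : π.natDegree ∣ Module.finrank F L) : (π.map (algebraMap F L)).Splits := by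
  have hdvd := hπi.natDegree_dvd_iff_dvd_X_pow_card_pow_sub_X.mp hd
  rw [← Module.natCard_eq_pow_finrank (K := F) (V := L)] at hdvd
  have h : (X ^ Nat.card L - X : L[X]).Splits := by
    rw [splits_iff_card_roots, Nat.card_eq_fintype_card, FiniteField.roots_X_pow_card_sub_X,
      FiniteField.X_pow_card_sub_X_natDegree_eq L Fintype.one_lt_card]
    rfl
  refine h.of_dvd (FiniteField.X_pow_card_sub_X_ne_zero L Finite.one_lt_card) ?_
  simpa using Polynomial.map_dvd (algebraMap F L) hdvd

theorem splits_of_natDegree_le {D : ℕ} (hdiv : ∀ d, 0 < d → d ≤ D → d ∣ Module.finrank F L) :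
    ∀ p : F[X], p.Monic → p.natDegree ≤ D → (p.map (algebraMap F L)).Splits := by
  intro p
  induction hp : p.natDegree using Nat.strong_induction_on generalizing p with
  | _ k ih =>
    intro hm hk
    by_cases hu : IsUnit p
    · rw [hm.eq_one_of_isUnit hu, Polynomial.map_one]
      exact Splits.one
    obtain ⟨π, hπ, hπi, r, rfl⟩ := Polynomial.exists_monic_irreducible_factor p hu
    have hr : r.Monic := hπ.of_mul_monic_left hm
    have hdeg := hπ.natDegree_mul hr
    have hpos := hπi.natDegree_pos
    rw [Polynomial.map_mul]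
    exact (splits_of_dvd_finrank π hπi (hdiv _ hpos (by omega))).mul
      (ih r.natDegree (by omega) r rfl hr (by omega))

variable (F L) in
/-- The units of `L` of order dividing `q ^ n - 1`. -/
noncomputable def torus (n : ℕ) : Finset Lˣ :=
  univ.filter fun z => z ^ (Nat.card F ^ n - 1) = 1

theorem card_torus {n : ℕ} (hn : n ∣ Module.finrank F L) :
    (torus F L n).card = Nat.card F ^ n - 1 := by
  rw [torus, ← Fintype.card_subtype, ← Nat.card_eq_fintype_card]
  have h := IsCyclic.card_powMonoidHom_ker (G := Lˣ) (Nat.card F ^ n - 1)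
  refine h.trans ?_
  rw [Nat.card_units, Module.natCard_eq_pow_finrank (K := F) (V := L)]
  exact Nat.gcd_eq_right (Nat.pow_sub_one_dvd_pow_sub_one _ hn)

theorem mem_torus {n : ℕ} {z : Lˣ} :
    z ∈ torus F L n ↔ z ^ (Nat.card F ^ n - 1) = 1 := by
  simp [torus]

theorem pow_card_eq_self_iff {n : ℕ} {z : Lˣ} :
    (z : L) ^ Nat.card F ^ n = z ↔ z ∈ torus F L n := by
  have h1 : 1 ≤ Nat.card F ^ n := Nat.one_le_pow _ _ Nat.card_pos
  conv_lhs => lhs; rw [← Nat.sub_add_cancel h1, pow_succ]
  rw [mem_torus, mul_eq_right₀ z.ne_zero, ← Units.val_pow_eq_pow_val, Units.val_eq_one]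

theorem minpoly_dvd_torus {n : ℕ} {z : Lˣ} (hz : z ∈ torus F L n) :
    minpoly F (z : L) ∣ X ^ Nat.card F ^ n - X :=
  minpoly.dvd F _ (by rw [map_sub, map_pow, aeval_X, pow_card_eq_self_iff.mpr hz, sub_self])

theorem irreducible_minpoly (z : Lˣ) : Irreducible (minpoly F (z : L)) :=
  minpoly.irreducible (Algebra.IsIntegral.isIntegral _)

theorem monic_minpoly (z : Lˣ) : (minpoly F (z : L)).Monic :=
  minpoly.monic (Algebra.IsIntegral.isIntegral _)

theorem natDegree_minpoly_dvd {n : ℕ} {z : Lˣ} (hz : z ∈ torus F L n) :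
    (minpoly F (z : L)).natDegree ∣ n :=
  (irreducible_minpoly z).natDegree_dvd_of_dvd_X_pow_card_pow_sub_X (minpoly_dvd_torus hz)

theorem minpoly_ne_X (z : Lˣ) : minpoly F (z : L) ≠ X := by
  intro h
  have := minpoly.aeval F (z : L)
  rw [h, aeval_X] at this
  exact z.ne_zero this

theorem roots_minpoly {n : ℕ} {z : Lˣ} (hz : z ∈ torus F L n) (hn : n ∣ Module.finrank F L) :
    ((minpoly F (z : L)).map (algebraMap F L)).roots =
      (Multiset.range (minpoly F (z : L)).natDegree).map fun i => (z : L) ^ Nat.card F ^ i := by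
  set π := minpoly F (z : L) with hπdef
  set d := π.natDegree with hd
  have hπi : Irreducible π := irreducible_minpoly z
  have hπ : π.Monic := monic_minpoly z
  have hsp := splits_of_dvd_finrank (L := L) π hπi ((natDegree_minpoly_dvd hz).trans hn)
  have hroot : ∀ i, aeval ((z : L) ^ Nat.card F ^ i) π = 0 := fun i => by
    rw [aeval_pow_card_pow, minpoly.aeval, zero_pow (pow_ne_zero _ Nat.card_pos.ne')]
  have hinj : ∀ i j, i < j → j < d → (z : L) ^ Nat.card F ^ i ≠ (z : L) ^ Nat.card F ^ j := by
    intro i j hij hjd h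
    obtain ⟨p, hp⟩ := CharP.exists F
    haveI := Fact.mk (CharP.char_is_prime F p)
    haveI : CharP L p := charP_of_injective_algebraMap (algebraMap F L).injective p
    obtain ⟨c, -, hc⟩ := FiniteField.card F p
    have hFp : Nat.card F = p ^ (c : ℕ) := by rw [Nat.card_eq_fintype_card]; exact hc
    obtain ⟨t, rfl⟩ := Nat.exists_eq_add_of_lt hij
    rw [show i + t + 1 = (t + 1) + i by omega, pow_add, pow_mul] at h
    have h2 : (z : L) = (z : L) ^ Nat.card F ^ (t + 1) := by
      have hinj' := iterateFrobenius L p ((c : ℕ) * i)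
      apply (iterateFrobenius L p ((c : ℕ) * i)).injective
      rw [iterateFrobenius_def, iterateFrobenius_def, pow_mul, ← hFp]
      exact h
    have h3 := minpoly.dvd F (z : L) (show aeval (z : L) (X ^ Nat.card F ^ (t + 1) - X : F[X]) = 0 by
      rw [map_sub, map_pow, aeval_X, ← h2, sub_self])
    have h4 := hπi.natDegree_dvd_of_dvd_X_pow_card_pow_sub_X h3
    have := Nat.le_of_dvd (by omega) h4
    omega
  have hnd : ((Multiset.range d).map fun i => (z : L) ^ Nat.card F ^ i).Nodup :=
    Multiset.Nodup.map_on (fun i hi j hj h => by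
      rw [Multiset.mem_range] at hi hj
      rcases lt_trichotomy i j with h' | h' | h'
      · exact absurd h (hinj i j h' hj)
      · exact h'
      · exact absurd h.symm (hinj j i h' hi)) (Multiset.nodup_range d)
  symm
  refine Multiset.eq_of_le_of_card_le ((Multiset.le_iff_subset hnd).mpr ?_) ?_
  · intro x hx
    obtain ⟨i, -, rfl⟩ := Multiset.mem_map.mp hx
    rw [mem_roots_map hπ.ne_zero]
    exact hroot i
  · rw [Multiset.card_map, Multiset.card_range]
    refine (Polynomial.card_roots' _).trans ?_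
    rw [natDegree_map]

theorem card_torus_minpoly {n : ℕ} (hn : n ∣ Module.finrank F L) {π : F[X]} (hπ : π.Monic)
    (hπi : Irreducible π) (hπX : π ≠ X) (hd : π.natDegree ∣ n) :
    ((torus F L n).filter fun z : Lˣ => minpoly F (z : L) = π).card = π.natDegree := by
  have hsp := splits_of_dvd_finrank (L := L) π hπi (hd.trans hn)
  have hsep : (π.map (algebraMap F L)).Separable :=
    (PerfectField.separable_of_irreducible hπi).map
  have hcard : (π.map (algebraMap F L)).roots.toFinset.card = π.natDegree := by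
    rw [Multiset.toFinset_card_of_nodup (nodup_roots hsep), ← hsp.natDegree_eq_card_roots,
      natDegree_map]
  rw [← hcard]
  refine Finset.card_bij (fun z _ => (z : L)) ?_ ?_ ?_
  · intro z hz
    rw [Finset.mem_filter] at hz
    rw [Multiset.mem_toFinset, mem_roots_map hπ.ne_zero, ← hz.2]
    exact minpoly.aeval F (z : L)
  · intro a _ b _ h
    exact Units.ext h
  · intro x hx
    rw [Multiset.mem_toFinset, mem_roots_map hπ.ne_zero] at hx
    have hx' : aeval x π = 0 := hx
    have hx0 : x ≠ 0 := by
      intro h0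
      subst h0
      have hc : π.coeff 0 = 0 := by
        rw [aeval_def, eval₂_at_zero] at hx'
        exact (algebraMap F L).injective (by rwa [map_zero])
      exact hπX (eq_of_monic_of_associated hπ monic_X
        (((irreducible_X.associated_of_dvd hπi (X_dvd_iff.mpr hc))).symm))
    refine ⟨Units.mk0 x hx0, Finset.mem_filter.mpr ⟨?_, ?_⟩, rfl⟩
    · rw [← pow_card_eq_self_iff]
      obtain ⟨r, hr⟩ := (hπi.natDegree_dvd_iff_dvd_X_pow_card_pow_sub_X (n := n)).mp hd
      have h := congrArg (aeval x) hr
      rw [map_mul, hx', zero_mul, map_sub, map_pow, aeval_X, sub_eq_zero] at h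
      exact h
    · exact (minpoly.eq_of_irreducible_of_monic hπi hx' hπ).symm

variable {V : Type v} [AddCommGroup V] [Module F V] [Finite V] [Nontrivial V]

theorem primary_unique {f : Module.End F V} {π π' : F[X]} (hπ : π.Monic) (hπi : Irreducible π)
    (hn : IsNilpotent (aeval f π)) (hπ' : π'.Monic) (hπi' : Irreducible π')
    (hn' : IsNilpotent (aeval f π')) : π' = π := by
  obtain ⟨j, hj, hd⟩ := charpoly_eq_pow hπ' hπi' hn'
  have hj0 : j ≠ 0 := by
    rintro rfl
    have := Module.finrank_pos (R := F) (M := V)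
    omega
  exact eq_of_irreducible_dvd_charpoly hπ hπi hn hπ' hπi' (hj ▸ dvd_pow_self π' hj0)

theorem sum_units_eq_torus (hn : Module.finrank F V ∣ Module.finrank F L)
    (Φ : (Module.End F V)ˣ → ℂ)
    (hΦ : ∀ g, Φ g ≠ 0 → ∃ π : F[X], π.Monic ∧ Irreducible π ∧
      IsNilpotent (aeval (g : Module.End F V) π)) :
    ∑ g, Φ g = ∑ z ∈ torus F L (Module.finrank F V),
      ((minpoly F (z : L)).natDegree : ℂ)⁻¹ *
        ∑ g ∈ univ.filter (fun g : (Module.End F V)ˣ =>
          IsNilpotent (aeval (g : Module.End F V) (minpoly F (z : L)))), Φ g := by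
  simp only [mul_sum, Finset.sum_filter]
  rw [sum_comm]
  refine sum_congr rfl fun g _ => ?_
  by_cases h0 : Φ g = 0
  · rw [h0]
    exact (sum_eq_zero fun z _ => by simp).symm
  obtain ⟨π, hπ, hπi, hnil⟩ := hΦ g h0
  have hd : π.natDegree ∣ Module.finrank F V := by
    obtain ⟨j, -, hj⟩ := charpoly_eq_pow hπ hπi hnil
    exact ⟨j, by rw [← hj, mul_comm]⟩
  have hX : π ≠ X := by
    intro h
    rw [h, aeval_X] at hnil
    exact hnil.not_isUnit g.isUnit
  have hiff : ∀ z : Lˣ, IsNilpotent (aeval (g : Module.End F V) (minpoly F (z : L))) ↔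
      minpoly F (z : L) = π := fun z =>
    ⟨fun h => primary_unique hπ hπi hnil (monic_minpoly z) (irreducible_minpoly z) h,
      fun h => h ▸ hnil⟩
  have hterm : ∀ z : Lˣ,
      ((minpoly F (z : L)).natDegree : ℂ)⁻¹ *
        (if IsNilpotent (aeval (g : Module.End F V) (minpoly F (z : L))) then Φ g else 0) =
      if minpoly F (z : L) = π then (π.natDegree : ℂ)⁻¹ * Φ g else 0 := by
    intro z
    by_cases h : minpoly F (z : L) = π
    · rw [if_pos ((hiff z).mpr h), if_pos h, h]
    · rw [if_neg (fun h' => h ((hiff z).mp h')), if_neg h, mul_zero]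
  rw [sum_congr rfl fun z _ => hterm z, ← Finset.sum_filter, sum_const,
    card_torus_minpoly hn hπ hπi hX hd, nsmul_eq_mul, ← mul_assoc,
    mul_inv_cancel₀ (by exact_mod_cast hπi.natDegree_pos.ne'), one_mul]

theorem cusp_one_eq_dimMob
    (hsplit : ∀ p : F[X], p.Monic → p.natDegree ≤ Module.finrank F V →
      (p.map (algebraMap F L)).Splits) (f : Module.End F V) :
    cusp (fun _ : L => (1 : ℂ)) f = dimMob f := by
  unfold cusp dimMob dimMobSub
  refine (subMob_congr (invNZ_top f) (fun _ _ => rfl) fun U _ hU => ?_)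
  rw [wSub_eq _ hU.2, rootSum_eq, polySum, Multiset.map_const', Multiset.sum_replicate,
    nsmul_eq_mul, mul_one, ← (hsplit _ (LinearMap.charpoly_monic _) (by
      rw [LinearMap.charpoly_natDegree]; exact Submodule.finrank_le _)).natDegree_eq_card_roots,
    natDegree_map, LinearMap.charpoly_natDegree]

end Cfsg.Lib.Cuspidal
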