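import Cfsg.Agent.Cuspidal.Inner

/-!
# Existence of cuspidal characters
-/

set_option autoImplicit false

namespace Cfsg.Lib.Cuspidal

attribute [local instance] Fintype.ofFinite

open scoped Classical
open Finset Polynomial Cfsg.Lib.Chars

universe u w

variable {F : Type u} [Field F] [Finite F]

theorem polySum_X_sub_C {L : Type w} [Field L] [Algebra F L] (θ : L → ℂ) (a : F) :
    polySum θ (X - C a) = θ (algebraMap F L a) := by
  rw [polySum, Polynomial.map_sub, map_X, map_C, roots_X_sub_C]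
  simp

theorem natDegree_X_sub_C' (a : F) : ((X - C a).natDegree : ℂ) = 1 := by
  rw [natDegree_X_sub_C]
  norm_num

variable {V : Type u} [AddCommGroup V] [Module F V] [Finite V] [Nontrivial V]

theorem cusp_unipotent {L : Type w} [Field L] [Algebra F L] (θ : L → ℂ) (hone : θ 1 = 1)
    {f : Module.End F V} (hf : IsNilpotent (f - 1)) : cusp θ f = dimMob f := by
  rw [cusp_primary θ (monic_X_sub_C 1) (irreducible_X_sub_C 1)
    (by rwa [map_sub, aeval_X, aeval_C, map_one]), polySum_X_sub_C, map_one, hone,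
    natDegree_X_sub_C', div_one, one_mul]

theorem dimMob_one_add (B : Module.End F V) : dimMob (1 + B) = dimMob B := by
  rw [add_comm, ← one_smul F (1 : Module.End F V)]
  exact dimMob_add_smul_one B 1

theorem cusp_at_one {L : Type w} [Field L] [Algebra F L] (θ : L → ℂ) (hone : θ 1 = 1) :
    cusp θ (1 : Module.End F V) =
      ∏ i ∈ Finset.Ico 1 (Module.finrank F V), (1 - (Nat.card F : ℂ) ^ i) := by
  rw [cusp_unipotent θ hone (by rw [sub_self]; exact IsNilpotent.zero),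
    ← add_zero (1 : Module.End F V), dimMob_one_add]
  exact dimMob_zero

theorem sum_cusp_radical {L : Type w} [Field L] [Algebra F L] (θ : L → ℂ) (hone : θ 1 = 1)
    {W₀ : Submodule F V} (h0 : W₀ ≠ ⊥) (h1 : W₀ ≠ ⊤) :
    ∑ g ∈ univ.filter (fun g : (Module.End F V)ˣ => (g : Module.End F V) - 1 ∈ blockEnd W₀),
      cusp θ (g : Module.End F V) = 0 := by
  have hnil : ∀ B : blockEnd W₀, IsNilpotent (B : Module.End F V) := fun B =>
    ⟨2, LinearMap.ext fun x => by
      rw [pow_two, Module.End.mul_apply]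
      exact B.2.1 _ (B.2.2 x)⟩
  rw [← sum_dimMob_block_zero (0 : Module.End F V) W₀ h0 h1 (fun x _ => W₀.zero_mem)]
  refine Finset.sum_bij' (fun g hg => ⟨(g : Module.End F V) - 1, (Finset.mem_filter.mp hg).2⟩)
    (fun B _ => ((hnil B).isUnit_one_add).unit) ?_ ?_ ?_ ?_ ?_
  · exact fun g _ => mem_univ _
  · intro B _
    refine Finset.mem_filter.mpr ⟨mem_univ _, ?_⟩
    rw [IsUnit.unit_spec, add_sub_cancel_left]
    exact B.2
  · intro g _
    exact Units.ext (add_sub_cancel 1 (g : Module.End F V))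
  · intro B _
    exact Subtype.ext (by simp [IsUnit.unit_spec])
  · intro g hg
    have hn : IsNilpotent ((g : Module.End F V) - 1) := hnil ⟨_, (Finset.mem_filter.mp hg).2⟩
    rw [cusp_unipotent θ hone hn, zero_add]
    conv_lhs => rw [← add_sub_cancel 1 (g : Module.End F V)]
    exact dimMob_one_add _

theorem orbit_count_self {q n : ℕ} (hq : 2 ≤ q) (hn : 2 ≤ n) (u : (ZMod (q ^ n - 1))ˣ) :
    (((Finset.range n) ×ˢ (Finset.range n)).filter fun p : ℕ × ℕ =>
      (u : ZMod (q ^ n - 1)) * (q : ZMod (q ^ n - 1)) ^ p.1 =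
        (u : ZMod (q ^ n - 1)) * (q : ZMod (q ^ n - 1)) ^ p.2).card = n := by
  have hlt : ∀ i, i < n → q ^ i < q ^ n - 1 := by
    intro i hi
    have h1 : q ^ i ≤ q ^ (n - 1) := Nat.pow_le_pow_right (by omega) (by omega)
    have h2 : q ^ n = q ^ (n - 1) * q := by rw [← pow_succ]; congr 1; omega
    have h3 : q ≤ q ^ (n - 1) := Nat.le_self_pow (by omega) q
    have h4 : q ^ (n - 1) * 2 ≤ q ^ n := h2 ▸ Nat.mul_le_mul_left _ hq
    omega
  rw [show ((Finset.range n) ×ˢ (Finset.range n)).filter (fun p : ℕ × ℕ =>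
      (u : ZMod (q ^ n - 1)) * (q : ZMod (q ^ n - 1)) ^ p.1 =
        (u : ZMod (q ^ n - 1)) * (q : ZMod (q ^ n - 1)) ^ p.2) =
      (Finset.range n).diag from ?_, Finset.diag_card, Finset.card_range]
  ext ⟨i, j⟩
  simp only [Finset.mem_filter, Finset.mem_product, Finset.mem_range, Finset.mem_diag]
  constructor
  · rintro ⟨⟨hi, hj⟩, h⟩
    refine ⟨hi, Nat.pow_right_injective hq ?_⟩
    have h1 := u.isUnit.mul_left_cancel h
    rw [← Nat.cast_pow, ← Nat.cast_pow] at h1
    have h2 := congrArg ZMod.val h1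
    rwa [ZMod.val_natCast_of_lt (hlt i hi), ZMod.val_natCast_of_lt (hlt j hj)] at h2
  · rintro ⟨hi, rfl⟩
    exact ⟨⟨hi, hi⟩, rfl⟩

theorem orbit_image_card {q n : ℕ} (hq : 2 ≤ q) (hn : 2 ≤ n) (u : (ZMod (q ^ n - 1))ˣ)
    (s : Finset (ZMod (q ^ n - 1))ˣ)
    (hs : ∀ v ∈ s, ∃ p ∈ (Finset.range n) ×ˢ (Finset.range n),
      (v : ZMod (q ^ n - 1)) * (q : ZMod (q ^ n - 1)) ^ p.1 =
        (u : ZMod (q ^ n - 1)) * (q : ZMod (q ^ n - 1)) ^ p.2) :
    s.card ≤ n := by
  have h1 : 1 ≤ q ^ n := Nat.one_le_pow _ _ (by omega)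
  have hqn : (q : ZMod (q ^ n - 1)) ^ n = 1 := by
    rw [← Nat.cast_pow, show q ^ n = (q ^ n - 1) + 1 by omega, Nat.cast_add, ZMod.natCast_self, zero_add,
      Nat.cast_one]
  refine le_trans
    (le_of_eq (Finset.card_image_of_injective (f := fun v : (ZMod (q ^ n - 1))ˣ => (v : ZMod (q ^ n - 1))) _
      Units.val_injective).symm)
    (le_trans (Finset.card_le_card ?_)
      (le_trans (Finset.card_image_le (s := Finset.range n)
        (f := fun t => (u : ZMod (q ^ n - 1)) * (q : ZMod (q ^ n - 1)) ^ t)) (Finset.card_range n).le))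
  intro x hx
  obtain ⟨v, hv, rfl⟩ := Finset.mem_image.mp hx
  obtain ⟨⟨i, l⟩, hil, h⟩ := hs v hv
  rw [Finset.mem_product, Finset.mem_range, Finset.mem_range] at hil
  refine Finset.mem_image.mpr ⟨(l + (n - i)) % n, Finset.mem_range.mpr (Nat.mod_lt _ (by omega)), ?_⟩
  have h' : (v : ZMod (q ^ n - 1)) * (q : ZMod (q ^ n - 1)) ^ i * (q : ZMod (q ^ n - 1)) ^ (n - i) =
      (u : ZMod (q ^ n - 1)) * (q : ZMod (q ^ n - 1)) ^ l * (q : ZMod (q ^ n - 1)) ^ (n - i) := by
    rw [show (v : ZMod (q ^ n - 1)) * (q : ZMod (q ^ n - 1)) ^ i = (u : ZMod (q ^ n - 1)) * (q : ZMod (q ^ n - 1)) ^ l from h]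
  rw [mul_assoc, ← pow_add, show i + (n - i) = n by omega, hqn, mul_one, mul_assoc, ← pow_add] at h'
  rw [h', ← pow_eq_pow_mod _ hqn]

variable (F) in
/-- The data of a lift of a character of the torus. -/
theorem exists_theta {n : ℕ} {L : Type w} [Field L] [Algebra F L] [Finite L]
    (hdvd : n ∣ Module.finrank F L) (hn : 2 ≤ n) :
    ∃ θ : (ZMod (Nat.card F ^ n - 1))ˣ → L → ℂ,
      (∀ u a b, a ≠ 0 → b ≠ 0 → θ u (a * b) = θ u a * θ u b) ∧ (∀ u, θ u 1 = 1) ∧
      (∀ u a, a ≠ 0 → θ u a = 1 → a = 1) ∧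
      (∀ u v, ∑ z ∈ torus F L n, orbitSum F (θ u) n (z : L) *
          starRingEnd ℂ (orbitSum F (θ v) n (z : L)) =
        ((Nat.card F : ℂ) ^ n - 1) * ((((Finset.range n) ×ˢ (Finset.range n)).filter fun p : ℕ × ℕ =>
          (u : ZMod (Nat.card F ^ n - 1)) * (Nat.card F : ZMod (Nat.card F ^ n - 1)) ^ p.1 =
            (v : ZMod (Nat.card F ^ n - 1)) * (Nat.card F : ZMod (Nat.card F ^ n - 1)) ^ p.2).card : ℂ)) := by
  set q := Nat.card F with hq
  set N := q ^ n - 1 with hN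
  set m := Nat.card Lˣ with hm
  have hq1 : 1 < q := Finite.one_lt_card
  have hqn : 1 < q ^ n := Nat.one_lt_pow (by omega) hq1
  haveI : NeZero N := ⟨by omega⟩
  haveI : NeZero m := ⟨Nat.card_pos.ne'⟩
  have hNm : N ∣ m := by
    rw [hm, Nat.card_units, Module.natCard_eq_pow_finrank (K := F) (V := L)]
    exact Nat.pow_sub_one_dvd_pow_sub_one _ hdvd
  let e : Lˣ ≃* rootsOfUnity m ℂ := mulEquivOfCyclicCardEq (Complex.card_rootsOfUnity m).symm
  let χ₀ : Lˣ →* ℂ := (Units.coeHom ℂ).comp ((rootsOfUnity m ℂ).subtype.comp e.toMonoidHom)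
  have hχinj : ∀ a b, χ₀ a = χ₀ b → a = b := fun a b h =>
    e.injective (Subtype.ext (Units.ext h))
  have hconj : ∀ a, starRingEnd ℂ (χ₀ a) = χ₀ a⁻¹ := fun a => by
    have hu : ((rootsOfUnity m ℂ).subtype.comp e.toMonoidHom) a ∈ rootsOfUnity m ℂ := (e a).2
    have h := Complex.norm_eq_one_of_mem_rootsOfUnity hu
    show starRingEnd ℂ (((rootsOfUnity m ℂ).subtype.comp e.toMonoidHom a : ℂˣ) : ℂ) = _
    rw [← Complex.inv_eq_conj h]
    simp [χ₀]
  choose lift hlift using ZMod.unitsMap_surjective (m := m) hNm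
  let j : (ZMod N)ˣ → ℕ := fun u => ((lift u : (ZMod m)ˣ) : ZMod m).val
  have hjc : ∀ u, (Nat.card Lˣ).Coprime (j u) := fun u =>
    (ZMod.val_coe_unit_coprime (lift u)).symm
  have hjN : ∀ u, ((j u : ℕ) : ZMod N) = (u : ZMod N) := fun u => by
    rw [ZMod.natCast_val, ← ZMod.unitsMap_val hNm, hlift]
  let θ : (ZMod N)ˣ → L → ℂ := fun u a =>
    if h : a = 0 then 0 else χ₀ (Units.mk0 a h ^ j u)
  have hθ : ∀ u (a : Lˣ), θ u (a : L) = χ₀ (a ^ j u) := fun u a => by
    simp [θ]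
  refine ⟨θ, fun u a b ha hb => ?_, fun u => ?_, fun u a ha h => ?_, fun u v => ?_⟩
  · lift a to Lˣ using isUnit_iff_ne_zero.mpr ha
    lift b to Lˣ using isUnit_iff_ne_zero.mpr hb
    rw [← Units.val_mul, hθ, hθ, hθ, mul_pow, map_mul]
  · rw [← Units.val_one, hθ, one_pow, map_one]
  · lift a to Lˣ using isUnit_iff_ne_zero.mpr ha
    rw [hθ] at h
    rw [← Units.val_one]
    congr 1
    refine (powCoprime (hjc u)).injective ?_
    show a ^ j u = 1 ^ j u
    rw [one_pow]
    exact hχinj _ _ (h.trans (map_one χ₀).symm)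
  · set Zs := (powMonoidHom (α := Lˣ) N).ker with hZs
    have hZmem : ∀ z : Lˣ, z ∈ torus F L n ↔ z ∈ Zs := fun z => mem_torus
    have hZcard : Nat.card Zs = N := by
      refine Eq.trans ?_ (card_torus (F := F) (L := L) hdvd)
      rw [← Nat.card_eq_finsetCard]
      exact Nat.card_congr (Equiv.subtypeEquivRight fun z => (hZmem z).symm)
    obtain ⟨w, hw⟩ := IsCyclic.exists_ofOrder_eq_natCard (α := Zs)
    rw [hZcard] at hw
    have key : ∀ A B : ℕ, ∑ z ∈ torus F L n, χ₀ (z ^ A) * χ₀ (z ^ B)⁻¹ =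
        if (A : ZMod N) = (B : ZMod N) then (N : ℂ) else 0 := by
      intro A B
      let ψ : Zs →* ℂ :=
        { toFun := fun z => χ₀ ((z : Lˣ) ^ A) * χ₀ ((z : Lˣ) ^ B)⁻¹
          map_one' := by simp
          map_mul' := fun a b => by
            rw [Subgroup.coe_mul, mul_pow, mul_pow, mul_inv, map_mul, map_mul]
            ring }
      have hψ : ψ = 1 ↔ (A : ZMod N) = (B : ZMod N) := by
        rw [ZMod.natCast_eq_natCast_iff]
        constructor
        · intro h
          have h1 : χ₀ ((w : Lˣ) ^ A * ((w : Lˣ) ^ B)⁻¹) = 1 := by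
            rw [map_mul]
            exact DFunLike.congr_fun h w
          have h2 := hχinj _ _ (h1.trans (map_one χ₀).symm)
          rw [mul_inv_eq_one] at h2
          rw [← hw, ← pow_eq_pow_iff_modEq]
          exact Subtype.ext (by simpa using h2)
        · intro h
          refine MonoidHom.ext fun z => ?_
          show χ₀ ((z : Lˣ) ^ A) * χ₀ ((z : Lˣ) ^ B)⁻¹ = 1
          have hz : (z : Lˣ) ^ A = (z : Lˣ) ^ B := by
            refine pow_eq_pow_iff_modEq.mpr (h.of_dvd ?_)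
            exact orderOf_dvd_of_pow_eq_one (MonoidHom.mem_ker.mp z.2)
          rw [hz, ← map_mul, mul_inv_cancel, map_one]
      rw [Finset.sum_subtype (p := fun z => z ∈ Zs) _ hZmem
        (fun z : Lˣ => χ₀ (z ^ A) * χ₀ (z ^ B)⁻¹)]
      have h3 := sum_hom_units ψ
      refine Eq.trans h3 ?_
      rw [← Nat.card_eq_fintype_card, hZcard]
      by_cases h : ψ = 1
      · rw [if_pos h, if_pos (hψ.mp h)]
      · rw [if_neg h, if_neg (fun h' => h (hψ.mpr h')), Nat.cast_zero]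
    have hterm : ∀ z : Lˣ, orbitSum F (θ u) n (z : L) * starRingEnd ℂ (orbitSum F (θ v) n (z : L)) =
        ∑ p ∈ (Finset.range n) ×ˢ (Finset.range n),
          χ₀ (z ^ (q ^ p.1 * j u)) * χ₀ (z ^ (q ^ p.2 * j v))⁻¹ := by
      intro z
      rw [orbitSum, orbitSum, map_sum, Finset.sum_mul_sum, Finset.sum_product]
      refine sum_congr rfl fun i _ => sum_congr rfl fun l _ => ?_
      rw [← Units.val_pow_eq_pow_val, ← Units.val_pow_eq_pow_val, hθ, hθ, hconj, ← pow_mul,
        ← pow_mul]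
    rw [sum_congr rfl fun z _ => hterm z, sum_comm, sum_congr rfl fun p _ => key _ _,
      ← Finset.sum_filter, sum_const, nsmul_eq_mul, mul_comm]
    congr 1
    · rw [hN, Nat.cast_sub hqn.le]
      push_cast
      rfl
    · congr 2
      refine Finset.filter_congr fun p _ => ?_
      push_cast
      rw [hjN, hjN, mul_comm, mul_comm (_ ^ p.2)]

/-- The number of cuspidal irreducible characters of `GL(V)`. -/
theorem card_cusp_chars (hn : 2 ≤ Module.finrank F V) :
    Nat.totient (Nat.card F ^ Module.finrank F V - 1) / Module.finrank F V ≤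
      Nat.card {χ : Cfsg.IrrCharacter (Module.End F V)ˣ //
        (χ : (Module.End F V)ˣ → ℂ) 1 =
            ∏ i ∈ Finset.Ico 1 (Module.finrank F V), ((Nat.card F : ℂ) ^ i - 1) ∧
        ∀ W₀ : Submodule F V, W₀ ≠ ⊥ → W₀ ≠ ⊤ →
          ∑ g ∈ univ.filter (fun g : (Module.End F V)ˣ => (g : Module.End F V) - 1 ∈ blockEnd W₀),
            (χ : (Module.End F V)ˣ → ℂ) g = 0} := by
  set n := Module.finrank F V with hndef
  set q := Nat.card F with hqdef
  set N := q ^ n - 1 with hN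
  have hq1 : 1 < q := Finite.one_lt_card
  have hqn : 1 < q ^ n := Nat.one_lt_pow (by omega) hq1
  haveI : NeZero N := ⟨by omega⟩
  obtain ⟨L, _, _, _, hL⟩ := exists_ext (F := F) n
  have hdvd : n ∣ Module.finrank F L := hL ▸ Nat.dvd_factorial (by omega) le_rfl
  have hsplit : ∀ p : F[X], p.Monic → p.natDegree ≤ Module.finrank F V →
      (p.map (algebraMap F L)).Splits :=
    splits_of_natDegree_le fun d h1 h2 => hL ▸ Nat.dvd_factorial h1 h2
  obtain ⟨θ, hmul, hone, hinj, hinner⟩ := exists_theta F hdvd hn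
  set P := ∏ i ∈ Finset.Ico 1 n, ((q : ℂ) ^ i - 1) with hP
  let X' : (ZMod N)ˣ → (Module.End F V)ˣ → ℂ := fun u g => cusp (θ u) (g : Module.End F V)
  have hgen : ∀ u, Cfsg.IsGeneralizedCharacter (Module.End F V)ˣ (X' u) := fun u =>
    isGeneralized_cusp (θ u) (hmul u) (hone u) (hinj u) hsplit
  have hN0 : (q : ℂ) ^ n - 1 ≠ 0 := by
    rw [sub_ne_zero]; exact_mod_cast hqn.ne'
  have hIP : ∀ u v, Cfsg.classInner (X' u) (X' v) =
      ((((Finset.range n) ×ˢ (Finset.range n)).filter fun p : ℕ × ℕ =>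
        (u : ZMod N) * (q : ZMod N) ^ p.1 = (v : ZMod N) * (q : ZMod N) ^ p.2).card : ℂ) / (n : ℂ) := by
    intro u v
    rw [classInner_cusp hdvd (θ u) (θ v), ← hndef, hinner]
    have hn' : (n : ℂ) ≠ 0 := by exact_mod_cast (show n ≠ 0 by omega)
    have key : ∀ c : ℂ, ((n : ℂ) * ((q : ℂ) ^ n - 1))⁻¹ * (((q : ℂ) ^ n - 1) * c) = c / (n : ℂ) :=
      fun c => by field_simp
    exact key _
  have hnorm : ∀ u, Cfsg.classInner (X' u) (X' u) = 1 := fun u => by
    rw [hIP, orbit_count_self (by omega) hn, div_self]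
    exact_mod_cast (show n ≠ 0 by omega)
  have hX1 : ∀ u, X' u 1 = (-1 : ℂ) ^ (n - 1) * P := by
    intro u
    show cusp (θ u) ((1 : (Module.End F V)ˣ) : Module.End F V) = _
    rw [Units.val_one, cusp_at_one _ (hone u), hP, ← hndef, ← hqdef]
    rw [show n - 1 = (Finset.Ico 1 n).card by simp, ← Finset.prod_const, ← Finset.prod_mul_distrib]
    exact Finset.prod_congr rfl fun i _ => by ring
  obtain ⟨p0, hp0, hPp⟩ : ∃ p0 : ℕ, 0 < p0 ∧ P = (p0 : ℂ) := by
    refine ⟨∏ i ∈ Finset.Ico 1 n, (q ^ i - 1), Finset.prod_pos fun i hi => ?_, ?_⟩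
    · have := Nat.one_lt_pow (show i ≠ 0 by rw [Finset.mem_Ico] at hi; omega) hq1
      omega
    · rw [hP, Nat.cast_prod]
      refine Finset.prod_congr rfl fun i _ => ?_
      rw [Nat.cast_sub (Nat.one_le_pow _ _ (by omega))]
      push_cast
      rfl
  have hirr : ∀ u, Cfsg.IsIrrCharacter (Module.End F V)ˣ (((-1 : ℂ) ^ (n - 1)) • X' u) := by
    intro u
    have hpos : ∀ f : (Module.End F V)ˣ → ℂ, Cfsg.IsIrrCharacter (Module.End F V)ˣ f →
        f 1 ≠ -(p0 : ℂ) := by
      rintro f hf h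
      obtain ⟨k, ρ, hρ⟩ := isCharacter_of_irr hf
      rw [← hρ, ρ.char_one] at h
      have h' : ((Module.finrank ℂ (Fin k → ℂ) + p0 : ℕ) : ℂ) = 0 := by
        push_cast; rw [h]; ring
      have := Nat.cast_eq_zero.mp h'
      omega
    rcases isIrr_or_neg_of_norm_one (hgen u) (hnorm u) with h | h
    · rcases neg_one_pow_eq_or ℂ (n - 1) with hs | hs
      · rwa [hs, one_smul]
      · exact absurd (by rw [hX1, hs, hPp]; ring) (hpos _ h)
    · rcases neg_one_pow_eq_or ℂ (n - 1) with hs | hs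
      · exact absurd (by rw [Pi.neg_apply, hX1, hs, hPp]; ring) (hpos _ h)
      · rwa [hs, neg_one_smul]
  let S := {χ : Cfsg.IrrCharacter (Module.End F V)ˣ //
        (χ : (Module.End F V)ˣ → ℂ) 1 = P ∧
        ∀ W₀ : Submodule F V, W₀ ≠ ⊥ → W₀ ≠ ⊤ →
          ∑ g ∈ univ.filter (fun g : (Module.End F V)ˣ => (g : Module.End F V) - 1 ∈ blockEnd W₀),
            (χ : (Module.End F V)ˣ → ℂ) g = 0}
  show Nat.totient N / n ≤ Nat.card S
  let mk : (ZMod N)ˣ → S := fun u => ⟨⟨_, hirr u⟩, by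
      show (-1 : ℂ) ^ (n - 1) * X' u 1 = P
      rw [hX1, ← mul_assoc, ← mul_pow, neg_one_mul, neg_neg, one_pow, one_mul],
    fun W₀ h0 h1 => by
      show ∑ g ∈ _, (-1 : ℂ) ^ (n - 1) * X' u g = 0
      rw [← Finset.mul_sum, sum_cusp_radical (θ u) (hone u) h0 h1, mul_zero]⟩
  haveI : Finite (Cfsg.IrrCharacter (Module.End F V)ˣ) := inferInstance
  haveI : Finite S := Subtype.finite
  have hfib : ∀ s ∈ (univ : Finset (ZMod N)ˣ).image mk,
      (univ.filter fun v => mk v = s).card ≤ n := by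
    intro s hs
    obtain ⟨u, -, rfl⟩ := Finset.mem_image.mp hs
    refine orbit_image_card (by omega) hn u _ fun v hv => ?_
    have heq : X' v = X' u := by
      have h := congrArg (fun s : S => (s.1.1 : (Module.End F V)ˣ → ℂ)) (Finset.mem_filter.mp hv).2
      exact smul_right_injective _ (pow_ne_zero (n - 1) (neg_ne_zero.mpr one_ne_zero)) h
    have h1 := hIP v u
    rw [← heq, hnorm v] at h1
    have hne : (((Finset.range n) ×ˢ (Finset.range n)).filter fun p : ℕ × ℕ =>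
        (v : ZMod N) * (q : ZMod N) ^ p.1 = (u : ZMod N) * (q : ZMod N) ^ p.2).Nonempty := by
      rw [Finset.nonempty_iff_ne_empty]
      intro he
      rw [he, Finset.card_empty, Nat.cast_zero, zero_div] at h1
      exact one_ne_zero h1
    obtain ⟨p, hp⟩ := hne
    rw [Finset.mem_filter] at hp
    exact ⟨p, hp⟩
  have h1 := Finset.card_le_mul_card_image (f := mk) (univ : Finset (ZMod N)ˣ) n hfib
  have htot : Nat.card (ZMod N)ˣ = Nat.totient N := by
    have := ZMod.card_units_eq_totient N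
    rwa [← Nat.card_eq_fintype_card] at this
  rw [Finset.card_univ, ← Nat.card_eq_fintype_card, htot] at h1
  refine Nat.div_le_of_le_mul (h1.trans (Nat.mul_le_mul_left n ?_))
  rw [Nat.card_eq_fintype_card]
  exact Finset.card_le_univ _

end Cfsg.Lib.Cuspidal
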