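import Cfsg.Agent.Cuspidal.Count

/-!
# The nilpotent sum and the inner products
-/

set_option autoImplicit false

namespace Cfsg.Lib.Cuspidal

attribute [local instance] Fintype.ofFinite

open scoped Classical
open Finset Polynomial

universe u v w

variable {F : Type u} [Field F] [Finite F]

theorem exists_ext (n : ℕ) :
    ∃ (L : Type) (_ : Field L) (_ : Algebra F L) (_ : Finite L),
      Module.finrank F L = n.factorial := by
  obtain ⟨p, hp⟩ := CharP.exists F
  haveI := Fact.mk (CharP.char_is_prime F p)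
  haveI : NeZero n.factorial := ⟨n.factorial_ne_zero⟩
  exact ⟨FiniteField.Extension F p n.factorial, inferInstance, inferInstance, inferInstance,
    FiniteField.finrank_extension F p n.factorial⟩

theorem dimMob_of_model {V : Type v} [AddCommGroup V] [Module F V] [Finite V] {π : F[X]}
    [Fact (Irreducible π)] [Finite (AdjoinRoot π)] {k : ℕ} (hk : 0 < k)
    (x : (Fin k → AdjoinRoot π) ≃ₗ[F] V) (g : Module.End F V)
    (N : Module.End (AdjoinRoot π) (Fin k → AdjoinRoot π)) (hN : IsNilpotent N)
    (h : ∀ y, g (x y) = x (modelEnd N y)) :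
    dimMob g = (π.natDegree : ℂ) * dimMob N := by
  have : Nonempty (Fin k) := ⟨⟨0, hk⟩⟩
  rw [dimMob_intertwine x h]
  exact dimMob_model (Fact.out) hN

theorem sum_linear_eq_nilSum {V : Type v} [AddCommGroup V] [Module F V] [Finite V] [Nontrivial V]
    {a : F} (ha : a ≠ 0) :
    ∑ g ∈ univ.filter (fun g : (Module.End F V)ˣ =>
        IsNilpotent (aeval (g : Module.End F V) (X - C a))), dimMob (g : Module.End F V) =
      nilSum F V := by
  have hunit : ∀ N : Module.End F V, IsNilpotent N → IsUnit (N + a • 1) := fun N hN => by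
    refine IsNilpotent.isUnit_add_right_of_commute hN ?_ ((Commute.one_right _).smul_right _)
    rw [← Algebra.algebraMap_eq_smul_one]
    exact (isUnit_iff_ne_zero.mpr ha).map _
  have hev : ∀ g : Module.End F V, aeval g (X - C a) = g - a • 1 := fun g => by
    simp [Algebra.algebraMap_eq_smul_one]
  rw [nilSum]
  refine Finset.sum_bij' (fun g _ => (g : Module.End F V) - a • 1)
    (fun N hN => (hunit N (Finset.mem_filter.mp hN).2).unit) ?_ ?_ ?_ ?_ ?_
  · intro g hg
    exact Finset.mem_filter.mpr ⟨mem_univ _, hev (g : Module.End F V) ▸ (Finset.mem_filter.mp hg).2⟩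
  · intro N hN
    refine Finset.mem_filter.mpr ⟨mem_univ _, ?_⟩
    rw [hev, IsUnit.unit_spec, add_sub_cancel_right]
    exact (Finset.mem_filter.mp hN).2
  · intro g _
    exact Units.ext (sub_add_cancel _ _)
  · intro N _
    rw [IsUnit.unit_spec, add_sub_cancel_right]
  · intro g _
    conv_lhs => rw [← sub_add_cancel (g : Module.End F V) (a • 1)]
    exact dimMob_add_smul_one _ a

theorem card_torus_linear {L : Type w} [Field L] [Algebra F L] [Finite L] {n : ℕ} :
    ((torus F L n).filter fun z : Lˣ => (minpoly F (z : L)).natDegree = 1).card =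
      Nat.card F - 1 := by
  rw [← Nat.card_units, Nat.card_eq_fintype_card, ← Finset.card_univ]
  symm
  refine Finset.card_bij (fun a _ => Units.map (algebraMap F L : F →* L) a) ?_ ?_ ?_
  · intro a _
    refine Finset.mem_filter.mpr ⟨mem_torus.mpr ?_, ?_⟩
    · rw [← map_pow]
      have h1 : a ^ (Nat.card F - 1) = 1 := by
        rw [← Nat.card_units]; exact pow_card_eq_one'
      obtain ⟨c, hc⟩ := Nat.sub_one_dvd_pow_sub_one (Nat.card F) n
      rw [hc, pow_mul, h1, one_pow, map_one]
    · show (minpoly F (algebraMap F L (a : F))).natDegree = 1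
      rw [minpoly.eq_X_sub_C, natDegree_X_sub_C]
  · intro a _ b _ h
    exact Units.ext ((algebraMap F L).injective (congrArg Units.val h))
  · intro z hz
    obtain ⟨c, hc⟩ := minpoly.mem_range_of_degree_eq_one F (z : L) (by
      rw [degree_eq_natDegree (monic_minpoly z).ne_zero, (Finset.mem_filter.mp hz).2]; rfl)
    have hc0 : c ≠ 0 := fun h => z.ne_zero (by rw [← hc, h, map_zero])
    exact ⟨Units.mk0 c hc0, mem_univ _, Units.ext hc⟩

set_option maxHeartbeats 1600000 in
theorem nilSum_eq_aux : ∀ (n : ℕ) (K : Type u) [Field K] [Finite K] (V : Type u) [AddCommGroup V]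
    [Module K V] [Finite V] [Nontrivial V], Module.finrank K V = n →
    nilSum K V * ((Nat.card K : ℂ) ^ n - 1) = (Nat.card (Module.End K V)ˣ : ℂ) := by
  intro n
  induction n using Nat.strong_induction_on with
  | _ n ih =>
  intro K _ _ V _ _ _ _ hn
  obtain ⟨L, _, _, _, hL⟩ := exists_ext (F := K) n
  have hn0 : 0 < n := hn ▸ Module.finrank_pos
  have hdvd : n ∣ Module.finrank K L := hL ▸ Nat.dvd_factorial hn0 le_rfl
  have hsplit : ∀ p : K[X], p.Monic → p.natDegree ≤ Module.finrank K V →
      (p.map (algebraMap K L)).Splits :=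
    splits_of_natDegree_le fun d h1 h2 => hL ▸ Nat.dvd_factorial h1 (hn ▸ h2)
  have hsupp : ∀ g : (Module.End K V)ˣ, dimMob (g : Module.End K V) ≠ 0 → ∃ π : K[X], π.Monic ∧
      Irreducible π ∧ IsNilpotent (aeval (g : Module.End K V) π) := fun g hg =>
    exists_primary_of_cusp_ne_zero (fun _ : L => (1 : ℂ)) (by rwa [cusp_one_eq_dimMob hsplit])
  set N := (Nat.card K : ℂ) ^ n - 1 with hN
  have hq : 1 < Nat.card K := Finite.one_lt_card
  have hpow : 1 < Nat.card K ^ n := Nat.one_lt_pow hn0.ne' hq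
  have hN0 : N ≠ 0 := by
    rw [hN, sub_ne_zero]
    exact_mod_cast hpow.ne'
  set G : ℂ := (Nat.card (Module.End K V)ˣ : ℂ) with hG
  have hterm : ∀ z ∈ torus K L n, ((minpoly K (z : L)).natDegree : ℂ)⁻¹ *
      ∑ g ∈ univ.filter (fun g : (Module.End K V)ˣ =>
        IsNilpotent (aeval (g : Module.End K V) (minpoly K (z : L)))), dimMob (g : Module.End K V) =
      if (minpoly K (z : L)).natDegree = 1 then nilSum K V else G / N := by
    intro z hz
    by_cases h1 : (minpoly K (z : L)).natDegree = 1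
    · obtain ⟨c, hc⟩ := minpoly.mem_range_of_degree_eq_one K (z : L) (by
        rw [degree_eq_natDegree (monic_minpoly z).ne_zero, h1]; rfl)
      have hc0 : c ≠ 0 := fun h => z.ne_zero (by rw [← hc, h, map_zero])
      rw [if_pos h1, h1, Nat.cast_one, inv_one, one_mul, ← hc, minpoly.eq_X_sub_C]
      exact sum_linear_eq_nilSum hc0
    · rw [if_neg h1]
      set π := minpoly K (z : L) with hπdef
      haveI : Fact (Irreducible π) := ⟨irreducible_minpoly z⟩
      haveI := finite_adjoinRoot (irreducible_minpoly z : Irreducible π)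
      obtain ⟨k, hk⟩ := natDegree_minpoly_dvd hz
      rw [← hπdef] at hk
      have hd0 : 0 < π.natDegree := (irreducible_minpoly z).natDegree_pos
      have hk0 : 0 < k := Nat.pos_of_ne_zero fun h => by rw [h, mul_zero] at hk; omega
      have : Nonempty (Fin k) := ⟨⟨0, hk0⟩⟩
      have hkn : k < n := by
        rw [hk]
        exact (Nat.lt_mul_iff_one_lt_left hk0).mpr (by omega)
      have hs := sum_primary_eq (V := V) (monic_minpoly z) (minpoly_ne_X z) (k := k) (hn ▸ hk.symm)
        (fun g => dimMob g) (fun M => (π.natDegree : ℂ) * dimMob M)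
        (fun x g M hM h => by rw [dimMob_of_model hk0 x g M hM h])
      rw [← mul_sum] at hs
      have hih := ih k hkn (AdjoinRoot π) (Fin k → AdjoinRoot π) (Module.finrank_fin_fun _)
      have hcard : (Nat.card (AdjoinRoot π) : ℂ) ^ k = (Nat.card K : ℂ) ^ n := by
        rw [natCard_adjoinRoot (irreducible_minpoly z)]
        push_cast
        rw [← pow_mul, ← hk]
      rw [hcard, ← hN] at hih
      have hGL : Nat.card (Module.End (AdjoinRoot π) (Fin k → AdjoinRoot π))ˣ =
          Nat.card ((Fin k → AdjoinRoot π) ≃ₗ[AdjoinRoot π] (Fin k → AdjoinRoot π)) :=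
        Nat.card_congr (LinearMap.GeneralLinearGroup.generalLinearEquiv _ _).toEquiv
      rw [hGL] at hih
      rw [nilSum] at hih
      set C0 := (Nat.card ((Fin k → AdjoinRoot π) ≃ₗ[AdjoinRoot π] (Fin k → AdjoinRoot π)) : ℂ)
      have hC0 : C0 ≠ 0 := by
        have : Finite ((Fin k → AdjoinRoot π) ≃ₗ[AdjoinRoot π] (Fin k → AdjoinRoot π)) :=
          DFunLike.finite _
        simp only [C0]
        exact_mod_cast Nat.card_pos.ne'
      have hdC : (π.natDegree : ℂ) ≠ 0 := by exact_mod_cast hd0.ne'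
      have hfin : ∀ X Y : ℂ, C0 * X = G * ((π.natDegree : ℂ) * Y) → Y * N = C0 →
          (π.natDegree : ℂ)⁻¹ * X = G / N := by
        intro X Y h1 h2
        rw [eq_div_iff hN0]
        refine mul_left_cancel₀ (mul_ne_zero hC0 hdC) ?_
        rw [show C0 * (π.natDegree : ℂ) * ((π.natDegree : ℂ)⁻¹ * X * N) =
          (π.natDegree : ℂ) * (π.natDegree : ℂ)⁻¹ * (C0 * X * N) by ring, mul_inv_cancel₀ hdC,
          one_mul, h1]
        linear_combination G * (π.natDegree : ℂ) * h2
      exact hfin _ _ hs hih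
  have hmain := sum_dimMob_units (F := K) (V := V)
  rw [sum_units_eq_torus (L := L) (hn ▸ hdvd) _ hsupp, hn, sum_congr rfl hterm, Finset.sum_ite,
    sum_const, sum_const, card_torus_linear, nsmul_eq_mul, nsmul_eq_mul] at hmain
  have hsplitcard := Finset.card_filter_add_card_filter_not (s := torus K L n)
    (fun z : Lˣ => (minpoly K (z : L)).natDegree = 1)
  rw [card_torus_linear, card_torus hdvd] at hsplitcard
  have hc : ((Nat.card K - 1 : ℕ) : ℂ) +
      (((torus K L n).filter fun z : Lˣ => ¬(minpoly K (z : L)).natDegree = 1).card : ℂ) = N := by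
    rw [hN, ← Nat.cast_add, hsplitcard, Nat.cast_sub hpow.le]
    push_cast
    rfl
  have hq1 : ((Nat.card K - 1 : ℕ) : ℂ) ≠ 0 := by
    have : Nat.card K - 1 ≠ 0 := by omega
    exact_mod_cast this
  refine mul_left_cancel₀ hq1 ?_
  rw [← hG] at hmain
  field_simp at hmain
  linear_combination hmain + (-G) * hc

theorem nilSum_eq (K : Type u) [Field K] [Finite K] (V : Type u) [AddCommGroup V]
    [Module K V] [Finite V] [Nontrivial V] :
    nilSum K V * ((Nat.card K : ℂ) ^ Module.finrank K V - 1) =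
      (Nat.card (Module.End K V)ˣ : ℂ) :=
  nilSum_eq_aux _ K V rfl

variable {V : Type v} [AddCommGroup V] [Module F V] [Finite V] [Nontrivial V]
  {L : Type w} [Field L] [Algebra F L] [Finite L]

theorem orbit_sum {n : ℕ} {z : Lˣ} (hz : z ∈ torus F L n) (hn : n ∣ Module.finrank F L)
    (θ : L → ℂ) :
    ∑ i ∈ Finset.range n, θ ((z : L) ^ Nat.card F ^ i) * ((minpoly F (z : L)).natDegree : ℂ) =
      (n : ℂ) * polySum θ (minpoly F (z : L)) := by
  obtain ⟨k, hk⟩ := natDegree_minpoly_dvd hz
  set d := (minpoly F (z : L)).natDegree with hd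
  have hper : ∀ i, (z : L) ^ Nat.card F ^ (d + i) = (z : L) ^ Nat.card F ^ i := by
    intro i
    have h1 : (minpoly F (z : L)) ∣ X ^ Nat.card F ^ d - X :=
      (irreducible_minpoly z).natDegree_dvd_iff_dvd_X_pow_card_pow_sub_X.mp dvd_rfl
    obtain ⟨r, hr⟩ := h1
    have h := congrArg (aeval (z : L)) hr
    rw [map_mul, minpoly.aeval, zero_mul, map_sub, map_pow, aeval_X, sub_eq_zero] at h
    rw [pow_add, pow_mul, h]
  have hrep : ∀ j, ∑ i ∈ Finset.range (d * j), θ ((z : L) ^ Nat.card F ^ i) =
      (j : ℂ) * ∑ i ∈ Finset.range d, θ ((z : L) ^ Nat.card F ^ i) := by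
    intro j
    induction j with
    | zero => simp
    | succ j ihj =>
      rw [mul_add, mul_one, add_comm (d * j) d, Finset.sum_range_add]
      simp only [hper]
      rw [ihj]
      push_cast
      ring
  have hps : polySum θ (minpoly F (z : L)) =
      ∑ i ∈ Finset.range d, θ ((z : L) ^ Nat.card F ^ i) := by
    rw [polySum, roots_minpoly hz hn, Multiset.map_map]
    rfl
  rw [← Finset.sum_mul, hps, hk, hrep]
  push_cast
  ring

/-- The sum of `θ` over the conjugates of `z`, with repetition, up to degree `n`. -/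
noncomputable def orbitSum (F : Type u) [Field F] (θ : L → ℂ) (n : ℕ) (z : L) : ℂ :=
  ∑ i ∈ Finset.range n, θ (z ^ Nat.card F ^ i)

set_option maxHeartbeats 1600000 in
theorem classInner_cusp {F : Type u} [Field F] [Finite F] {V : Type u} [AddCommGroup V]
    [Module F V] [Finite V] [Nontrivial V] [Algebra F L]
    (hn : Module.finrank F V ∣ Module.finrank F L) (θ η : L → ℂ) :
    Cfsg.classInner (fun g : (Module.End F V)ˣ => cusp θ (g : Module.End F V))
      (fun g : (Module.End F V)ˣ => cusp η (g : Module.End F V)) =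
      ((Module.finrank F V : ℂ) * ((Nat.card F : ℂ) ^ Module.finrank F V - 1))⁻¹ *
        ∑ z ∈ torus F L (Module.finrank F V), orbitSum F θ (Module.finrank F V) (z : L) *
          starRingEnd ℂ (orbitSum F η (Module.finrank F V) (z : L)) := by
  set n := Module.finrank F V with hndef
  have hn0 : 0 < n := Module.finrank_pos
  set Q := (Nat.card F : ℂ) ^ n - 1 with hQ
  have hQ0 : Q ≠ 0 := by
    rw [hQ, sub_ne_zero]
    exact_mod_cast (Nat.one_lt_pow hn0.ne' Finite.one_lt_card).ne'
  rw [Cfsg.Lib.Chars.classInner_def]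
  have hGne : (Nat.card (Module.End F V)ˣ : ℂ) ≠ 0 := by exact_mod_cast Nat.card_pos.ne'
  set G : ℂ := (Nat.card (Module.End F V)ˣ : ℂ) with hG
  have hsupp : ∀ g : (Module.End F V)ˣ, cusp θ (g : Module.End F V) *
      starRingEnd ℂ (cusp η (g : Module.End F V)) ≠ 0 → ∃ π : F[X], π.Monic ∧ Irreducible π ∧
        IsNilpotent (aeval (g : Module.End F V) π) := fun g hg =>
    exists_primary_of_cusp_ne_zero θ (left_ne_zero_of_mul hg)
  rw [sum_units_eq_torus (L := L) hn _ hsupp, mul_sum, mul_sum]
  refine sum_congr rfl fun z hz => ?_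
  set π := minpoly F (z : L) with hπdef
  haveI : Fact (Irreducible π) := ⟨irreducible_minpoly z⟩
  haveI := finite_adjoinRoot (irreducible_minpoly z : Irreducible π)
  obtain ⟨k, hk⟩ := natDegree_minpoly_dvd hz
  rw [← hπdef] at hk
  have hd0 : 0 < π.natDegree := (irreducible_minpoly z).natDegree_pos
  have hk0 : 0 < k := Nat.pos_of_ne_zero fun h => by rw [h, mul_zero] at hk; omega
  have : Nonempty (Fin k) := ⟨⟨0, hk0⟩⟩
  have hs := sum_primary_eq (V := V) (monic_minpoly z) (minpoly_ne_X z) (k := k) hk.symm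
    (fun g => dimMob g * dimMob g)
    (fun M => (π.natDegree : ℂ) ^ 2 * (dimMob M * dimMob M))
    (fun x g M hM h => by rw [dimMob_of_model hk0 x g M hM h]; ring)
  rw [← mul_sum, sum_dimMob_sq, Module.finrank_fin_fun] at hs
  have hb := nilSum_eq (AdjoinRoot π) (Fin k → AdjoinRoot π)
  have hcard : (Nat.card (AdjoinRoot π) : ℂ) ^ k = (Nat.card F : ℂ) ^ n := by
    rw [natCard_adjoinRoot (irreducible_minpoly z)]
    push_cast
    rw [← pow_mul, ← hk]
  have hGL : Nat.card (Module.End (AdjoinRoot π) (Fin k → AdjoinRoot π))ˣ =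
      Nat.card ((Fin k → AdjoinRoot π) ≃ₗ[AdjoinRoot π] (Fin k → AdjoinRoot π)) :=
    Nat.card_congr (LinearMap.GeneralLinearGroup.generalLinearEquiv _ _).toEquiv
  rw [Module.finrank_fin_fun, hcard, ← hQ, hGL] at hb
  set C0 := (Nat.card ((Fin k → AdjoinRoot π) ≃ₗ[AdjoinRoot π] (Fin k → AdjoinRoot π)) : ℂ)
  have hC0 : C0 ≠ 0 := by
    have : Finite ((Fin k → AdjoinRoot π) ≃ₗ[AdjoinRoot π] (Fin k → AdjoinRoot π)) :=
      DFunLike.finite _
    simp only [C0]
    exact_mod_cast Nat.card_pos.ne'
  set B := nilSum (AdjoinRoot π) (Fin k → AdjoinRoot π) with hB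
  set S₂ := ∑ g ∈ univ.filter (fun g : (Module.End F V)ˣ =>
    IsNilpotent (aeval (g : Module.End F V) π)),
    dimMob (g : Module.End F V) * dimMob (g : Module.End F V) with hS₂
  have hsum : ∑ g ∈ univ.filter (fun g : (Module.End F V)ˣ =>
      IsNilpotent (aeval (g : Module.End F V) π)),
      cusp θ (g : Module.End F V) * starRingEnd ℂ (cusp η (g : Module.End F V)) =
      polySum θ π / (π.natDegree : ℂ) * starRingEnd ℂ (polySum η π / (π.natDegree : ℂ)) * S₂ := by
    rw [hS₂, mul_sum]
    refine sum_congr rfl fun g hg => ?_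
    rw [cusp_primary θ (monic_minpoly z) (irreducible_minpoly z) (Finset.mem_filter.mp hg).2,
      cusp_primary η (monic_minpoly z) (irreducible_minpoly z) (Finset.mem_filter.mp hg).2,
      map_mul, conj_dimMob]
    ring
  have horb : ∀ ξ : L → ℂ, orbitSum F ξ n (z : L) = (k : ℂ) * polySum ξ π := by
    intro ξ
    refine mul_right_cancel₀ (b := (π.natDegree : ℂ)) (by exact_mod_cast hd0.ne') ?_
    rw [orbitSum, Finset.sum_mul, orbit_sum hz hn ξ, hk]
    push_cast
    ring
  rw [hsum, horb, horb, map_mul, Complex.conj_natCast, map_div₀, Complex.conj_natCast]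
  have hdC : (π.natDegree : ℂ) ≠ 0 := by exact_mod_cast hd0.ne'
  have hnC : (n : ℂ) = (π.natDegree : ℂ) * (k : ℂ) := by exact_mod_cast hk
  have hkC : (k : ℂ) ≠ 0 := by exact_mod_cast hk0.ne'
  -- solve for the sum of squares
  have hS : S₂ * Q = G * (π.natDegree : ℂ) ^ 2 * (k : ℂ) := by
    refine mul_left_cancel₀ hC0 ?_
    calc C0 * (S₂ * Q) = C0 * S₂ * Q := by ring
      _ = G * ((π.natDegree : ℂ) ^ 2 * ((k : ℂ) * B)) * Q := by rw [hs]
      _ = C0 * (G * (π.natDegree : ℂ) ^ 2 * (k : ℂ)) := by rw [← hb]; ring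
  rw [hnC]
  field_simp
  linear_combination (polySum θ π * starRingEnd ℂ (polySum η π)) * hS

end Cfsg.Lib.Cuspidal
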