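import Cfsg.Agent.Cuspidal.Mob

/-!
# The averaging identity for the Moebius inverse of the dimension

Over the endomorphisms that kill `W₀` and map into `W₀`, the values `dimMob (N + B)` sum to
zero.
-/

set_option autoImplicit false

namespace Cfsg.Lib.Cuspidal

attribute [local instance] Fintype.ofFinite

open scoped Classical
open Finset

universe u v

variable {K : Type u} [Field K] {V : Type v} [AddCommGroup V] [Module K V]

/-- The endomorphisms killing `W₀` with image inside `W₀`. -/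
def blockEnd (W₀ : Submodule K V) : AddSubgroup (Module.End K V) where
  carrier := {B | (∀ x ∈ W₀, B x = 0) ∧ ∀ x, B x ∈ W₀}
  zero_mem' := ⟨fun _ _ => rfl, fun _ => W₀.zero_mem⟩
  add_mem' := fun {a b} ha hb => ⟨fun x hx => by simp [ha.1 x hx, hb.1 x hx],
    fun x => by simpa using W₀.add_mem (ha.2 x) (hb.2 x)⟩
  neg_mem' := fun {a} ha => ⟨fun x hx => by simp [ha.1 x hx],
    fun x => by simpa using W₀.neg_mem (ha.2 x)⟩

theorem mem_blockEnd {W₀ : Submodule K V} {B : Module.End K V} :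
    B ∈ blockEnd W₀ ↔ (∀ x ∈ W₀, B x = 0) ∧ ∀ x, B x ∈ W₀ := Iff.rfl

/-- `blockEnd W₀` is the space of maps from the quotient to `W₀`. -/
noncomputable def blockEquiv (W₀ : Submodule K V) :
    ((V ⧸ W₀) →ₗ[K] W₀) ≃ blockEnd W₀ where
  toFun B := ⟨W₀.subtype ∘ₗ B ∘ₗ W₀.mkQ, fun x hx => by
      simp [(Submodule.Quotient.mk_eq_zero W₀).mpr hx], fun x => by simp⟩
  invFun B := W₀.liftQ ((B : Module.End K V).codRestrict W₀ B.2.2) fun x hx =>
    Subtype.ext (B.2.1 x hx)
  left_inv B := by ext x; rfl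
  right_inv B := by ext x; rfl

theorem blockEquiv_apply (W₀ : Submodule K V) (B : (V ⧸ W₀) →ₗ[K] W₀) (x : V) :
    (blockEquiv W₀ B : Module.End K V) x = (B (Submodule.Quotient.mk x) : V) := rfl

/-- The graph of `δ` over the subspace `S` of the quotient, for a section `ι`. -/
def graphMap {W₀ : Submodule K V} (ι : (V ⧸ W₀) →ₗ[K] V) {S : Submodule K (V ⧸ W₀)}
    (δ : S →ₗ[K] W₀) : S →ₗ[K] V :=
  ι ∘ₗ S.subtype + W₀.subtype ∘ₗ δ

theorem graphMap_apply {W₀ : Submodule K V} (ι : (V ⧸ W₀) →ₗ[K] V) {S : Submodule K (V ⧸ W₀)}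
    (δ : S →ₗ[K] W₀) (x : S) : graphMap ι δ x = ι (x : V ⧸ W₀) + (δ x : V) := rfl

section Graph

variable {W₀ : Submodule K V} {ι : (V ⧸ W₀) →ₗ[K] V} (hι : ∀ y, W₀.mkQ (ι y) = y)
include hι

theorem mk_graphMap {S : Submodule K (V ⧸ W₀)} (δ : S →ₗ[K] W₀) (x : S) :
    W₀.mkQ (graphMap ι δ x) = (x : V ⧸ W₀) := by
  rw [graphMap_apply, map_add, hι, Submodule.mkQ_apply W₀ (δ x : V),
    (Submodule.Quotient.mk_eq_zero W₀).mpr (δ x).2, add_zero]

theorem graphMap_range_inf {S : Submodule K (V ⧸ W₀)} (δ : S →ₗ[K] W₀) :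
    LinearMap.range (graphMap ι δ) ⊓ W₀ = ⊥ := by
  rw [eq_bot_iff]
  rintro _ ⟨⟨x, rfl⟩, hx⟩
  have h : x = 0 := Subtype.ext (by
    rw [← mk_graphMap hι δ x, Submodule.mkQ_apply, (Submodule.Quotient.mk_eq_zero W₀).mpr hx]
    rfl)
  simp [h]

theorem graphMap_range_map {S : Submodule K (V ⧸ W₀)} (δ : S →ₗ[K] W₀) :
    (LinearMap.range (graphMap ι δ)).map W₀.mkQ = S := by
  ext y
  constructor
  · rintro ⟨_, ⟨x, rfl⟩, rfl⟩
    rw [mk_graphMap hι]
    exact x.2
  · intro hy
    exact ⟨_, ⟨⟨y, hy⟩, rfl⟩, mk_graphMap hι δ _⟩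

theorem graphMap_injective {S : Submodule K (V ⧸ W₀)} {δ δ' : S →ₗ[K] W₀}
    (h : LinearMap.range (graphMap ι δ) = LinearMap.range (graphMap ι δ')) : δ = δ' := by
  ext x
  obtain ⟨z, hz⟩ : graphMap ι δ x ∈ LinearMap.range (graphMap ι δ') := h ▸ ⟨x, rfl⟩
  have hzx : z = x := Subtype.ext (by rw [← mk_graphMap hι δ' z, hz, mk_graphMap hι δ x])
  rw [hzx, graphMap_apply, graphMap_apply] at hz
  exact (add_left_cancel hz).symm

theorem exists_graphMap {U : Submodule K V} (hU : U ⊓ W₀ = ⊥) {S : Submodule K (V ⧸ W₀)}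
    (hS : U.map W₀.mkQ = S) : ∃ δ : S →ₗ[K] W₀, LinearMap.range (graphMap ι δ) = U := by
  subst hS
  let p : U →ₗ[K] (U.map W₀.mkQ : Submodule K (V ⧸ W₀)) :=
    (W₀.mkQ ∘ₗ U.subtype).codRestrict _ fun x => ⟨x, x.2, rfl⟩
  have hp : Function.Bijective p := by
    constructor
    · rw [← LinearMap.ker_eq_bot, eq_bot_iff]
      intro x hx
      have h1 : W₀.mkQ (x : V) = 0 := congrArg Subtype.val hx
      rw [Submodule.mkQ_apply, Submodule.Quotient.mk_eq_zero] at h1
      have h2 : (x : V) ∈ U ⊓ W₀ := ⟨x.2, h1⟩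
      rw [hU] at h2
      exact Subtype.ext h2
    · rintro ⟨_, x, hx, rfl⟩
      exact ⟨⟨x, hx⟩, rfl⟩
  let e := LinearEquiv.ofBijective p hp
  have he : ∀ y, W₀.mkQ ((e.symm y : U) : V) = (y : V ⧸ W₀) := fun y =>
    congrArg Subtype.val (e.apply_symm_apply y)
  let δ : (U.map W₀.mkQ : Submodule K (V ⧸ W₀)) →ₗ[K] W₀ :=
    (U.subtype ∘ₗ e.symm.toLinearMap - ι ∘ₗ (U.map W₀.mkQ).subtype).codRestrict W₀ fun y => by
      rw [← Submodule.Quotient.mk_eq_zero, ← Submodule.mkQ_apply, LinearMap.sub_apply, map_sub,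
        LinearMap.comp_apply, LinearMap.comp_apply, Submodule.subtype_apply, Submodule.subtype_apply,
        LinearEquiv.coe_toLinearMap, he, hι, sub_self]
  have hg : ∀ y, graphMap ι δ y = ((e.symm y : U) : V) := fun y => by
    rw [graphMap_apply]
    simp [δ]
  refine ⟨δ, le_antisymm ?_ ?_⟩
  · rintro _ ⟨y, rfl⟩
    rw [hg]
    exact (e.symm y).2
  · intro x hx
    exact ⟨e ⟨x, hx⟩, by rw [hg, e.symm_apply_apply]⟩

theorem card_compl_eq [Finite V] (S : Submodule K (V ⧸ W₀)) :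
    Nat.card {U : Submodule K V // U ⊓ W₀ = ⊥ ∧ U.map W₀.mkQ = S}
      = Nat.card (S →ₗ[K] W₀) := by
  refine (Nat.card_congr (Equiv.ofBijective
    (fun δ : S →ₗ[K] W₀ => (⟨LinearMap.range (graphMap ι δ), graphMap_range_inf hι δ,
      graphMap_range_map hι δ⟩ : {U : Submodule K V // U ⊓ W₀ = ⊥ ∧ U.map W₀.mkQ = S}))
    ⟨fun a b h => graphMap_injective hι (congrArg Subtype.val h), ?_⟩)).symm
  rintro ⟨U, hU, hS⟩
  obtain ⟨δ, hδ⟩ := exists_graphMap hι hU hS
  exact ⟨δ, Subtype.ext hδ⟩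

end Graph

theorem map_mkQ_invNZ {W₀ U : Submodule K V} {N B : Module.End K V}
    (hN : ∀ x ∈ W₀, N x ∈ W₀) (hB : B ∈ blockEnd W₀) (hU : InvNZ (N + B) U)
    (hUW : U ⊓ W₀ = ⊥) : InvNZ (W₀.mapQ W₀ N hN) (U.map W₀.mkQ) := by
  refine ⟨fun h => hU.1 ?_, ?_⟩
  · rw [eq_bot_iff, ← hUW]
    refine le_inf le_rfl fun x hx => ?_
    have : W₀.mkQ x ∈ U.map W₀.mkQ := ⟨x, hx, rfl⟩
    rw [h] at this
    exact (Submodule.Quotient.mk_eq_zero W₀).mp this
  · rintro _ ⟨x, hx, rfl⟩
    refine ⟨(N + B) x, hU.2 x hx, ?_⟩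
    simp [(Submodule.Quotient.mk_eq_zero W₀).mpr (hB.2 x)]

theorem card_compl_pairs [Finite V] {W₀ : Submodule K V} {N : Module.End K V}
    (hN : ∀ x ∈ W₀, N x ∈ W₀) {S : Submodule K (V ⧸ W₀)} (hS : InvNZ (W₀.mapQ W₀ N hN) S) :
    Nat.card {p : blockEnd W₀ × Submodule K V //
        (p.2 ⊓ W₀ = ⊥ ∧ InvNZ (N + (p.1 : Module.End K V)) p.2) ∧ p.2.map W₀.mkQ = S}
      = Nat.card (blockEnd W₀) := by
  obtain ⟨ι, hι'⟩ := W₀.mkQ.exists_rightInverse_of_surjective (Submodule.range_mkQ W₀)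
  have hι : ∀ y, W₀.mkQ (ι y) = y := fun y => LinearMap.congr_fun hι' y
  obtain ⟨r, hr'⟩ := LinearMap.exists_leftInverse_of_injective S.subtype (Submodule.ker_subtype S)
  have hr : ∀ x : S, r (x : V ⧸ W₀) = x := fun x => LinearMap.congr_fun hr' x
  let Sb : S →ₗ[K] S := (W₀.mapQ W₀ N hN).restrict hS.2
  let c : (S →ₗ[K] W₀) → (S →ₗ[K] W₀) := fun δ =>
    (graphMap ι δ ∘ₗ Sb - N ∘ₗ graphMap ι δ).codRestrict W₀ fun x => by
      rw [← Submodule.Quotient.mk_eq_zero, ← Submodule.mkQ_apply, LinearMap.sub_apply, map_sub,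
        LinearMap.comp_apply, LinearMap.comp_apply, mk_graphMap hι]
      simp only [Submodule.mkQ_apply]
      rw [← Submodule.mapQ_apply W₀ W₀ N (h := hN), ← Submodule.mkQ_apply W₀ (graphMap ι δ x),
        mk_graphMap hι]
      simp [Sb]
  have hc : ∀ δ x, (c δ x : V) = graphMap ι δ (Sb x) - N (graphMap ι δ x) := fun δ x => rfl
  have hmk : ∀ δ (x : S), (Submodule.Quotient.mk (graphMap ι δ x) : V ⧸ W₀) = (x : V ⧸ W₀) :=
    fun δ x => mk_graphMap hι δ x
  let P := {p : (S →ₗ[K] W₀) × ((V ⧸ W₀) →ₗ[K] W₀) //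
    ∀ x : S, p.2 (x : V ⧸ W₀) = c p.1 x}
  let e1 : P ≃ ((V ⧸ W₀) →ₗ[K] W₀) :=
    { toFun := fun p => p.1.2 + (p.1.1 - c p.1.1) ∘ₗ r
      invFun := fun B => ⟨(B ∘ₗ S.subtype, B - (B ∘ₗ S.subtype - c (B ∘ₗ S.subtype)) ∘ₗ r),
        fun x => by simp [hr]⟩
      left_inv := fun p => by
        have h1 : (p.1.2 + (p.1.1 - c p.1.1) ∘ₗ r) ∘ₗ S.subtype = p.1.1 := by
          ext x
          simp [hr, p.2 x]
        refine Subtype.ext (Prod.ext h1 ?_)
        dsimp only
        rw [h1]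
        abel
      right_inv := fun B => by
        dsimp only
        abel }
  have hcond : ∀ δ (B : (V ⧸ W₀) →ₗ[K] W₀), (∀ x : S, B (x : V ⧸ W₀) = c δ x) →
      ∀ x, (N + (blockEquiv W₀ B : Module.End K V)) (graphMap ι δ x) = graphMap ι δ (Sb x) := by
    intro δ B h x
    rw [LinearMap.add_apply, blockEquiv_apply, hmk, h x, hc]
    abel
  let f : P → {p : blockEnd W₀ × Submodule K V //
      (p.2 ⊓ W₀ = ⊥ ∧ InvNZ (N + (p.1 : Module.End K V)) p.2) ∧ p.2.map W₀.mkQ = S} := fun p =>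
    ⟨(blockEquiv W₀ p.1.2, LinearMap.range (graphMap ι p.1.1)),
      ⟨graphMap_range_inf hι _, fun h => hS.1 (by
          rw [← graphMap_range_map hι p.1.1, show LinearMap.range (graphMap ι p.1.1) = ⊥ from h,
            Submodule.map_bot]), by
        rintro _ ⟨x, rfl⟩
        exact ⟨Sb x, (hcond p.1.1 p.1.2 p.2 x).symm⟩⟩, graphMap_range_map hι _⟩
  have hf : Function.Bijective f := by
    constructor
    · intro p q h
      have h1 := congrArg (fun z => z.1.1) h
      have h2 := congrArg (fun z => z.1.2) h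
      exact Subtype.ext (Prod.ext (graphMap_injective hι h2) ((blockEquiv W₀).injective h1))
    · rintro ⟨⟨B, U⟩, ⟨hUW, hUi⟩, hmap⟩
      obtain ⟨δ, hδ⟩ := exists_graphMap hι hUW hmap
      refine ⟨⟨(δ, (blockEquiv W₀).symm B), fun x => ?_⟩,
        Subtype.ext (Prod.ext ((blockEquiv W₀).apply_symm_apply B) hδ)⟩
      obtain ⟨z, hz⟩ : (N + (B : Module.End K V)) (graphMap ι δ x)
          ∈ LinearMap.range (graphMap ι δ) :=
        hδ.symm ▸ hUi.2 _ (hδ ▸ ⟨x, rfl⟩)
      have hBx : ((blockEquiv W₀).symm B (x : V ⧸ W₀) : V) = (B : Module.End K V) (graphMap ι δ x) := by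
        conv_rhs => rw [← (blockEquiv W₀).apply_symm_apply B]
        rw [blockEquiv_apply, hmk]
      have hzx : z = Sb x := Subtype.ext (by
        rw [← hmk δ z, hz]
        simp only [LinearMap.add_apply, Submodule.Quotient.mk_add]
        rw [(Submodule.Quotient.mk_eq_zero W₀).mpr (B.2.2 _), add_zero,
          ← Submodule.mapQ_apply W₀ W₀ N (h := hN), hmk]
        rfl)
      apply Subtype.ext
      rw [hBx, hc, ← hzx, hz]
      simp
  rw [← Nat.card_congr (Equiv.ofBijective f hf), Nat.card_congr e1,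
    Nat.card_congr (blockEquiv W₀)]

theorem dimMobSub_compl [Finite V] {W₀ U : Submodule K V} {N B : Module.End K V}
    (hN : ∀ x ∈ W₀, N x ∈ W₀) (hB : B ∈ blockEnd W₀) (hU : InvNZ (N + B) U)
    (hUW : U ⊓ W₀ = ⊥) :
    dimMobSub (N + B) U = dimMobSub (W₀.mapQ W₀ N hN) (U.map W₀.mkQ) := by
  have hinj : ∀ a ≤ U, ∀ x ∈ a, W₀.mkQ x = 0 → x = 0 := fun a ha x hx h0 => by
    have : x ∈ U ⊓ W₀ := ⟨ha hx, (Submodule.Quotient.mk_eq_zero W₀).mp h0⟩
    rw [hUW] at this
    exact this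
  have h := mob_transport (S := InvNZ (N + B))
    (s := fun a : Submodule K V => (Module.finrank K a : ℂ))
    (T := InvNZ (W₀.mapQ W₀ N hN))
    (t := fun a : Submodule K (V ⧸ W₀) => (Module.finrank K a : ℂ))
    (fun a => a.map W₀.mkQ) 1 U ?_ ?_ ?_ ?_ U le_rfl hU
  · rw [one_mul] at h
    exact h.symm
  · intro a ha hai
    exact map_mkQ_invNZ hN hB hai (eq_bot_iff.mpr ((inf_le_inf_right W₀ ha).trans hUW.le))
  · intro a b ha hb _ _
    refine ⟨fun h x hx => ?_, fun h => Submodule.map_mono h⟩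
    obtain ⟨y, hy, hxy⟩ := h ⟨x, hx, rfl⟩
    have : y - x = 0 := hinj U le_rfl _ (U.sub_mem (hb hy) (ha hx)) (by rw [map_sub, hxy, sub_self])
    rw [sub_eq_zero] at this
    exact this ▸ hy
  · intro a ha hai b hb hba
    have hmap : (U ⊓ b.comap W₀.mkQ).map W₀.mkQ = b := by
      refine le_antisymm ?_ fun y hy => ?_
      · rintro _ ⟨x, hx, rfl⟩
        exact hx.2
      · obtain ⟨x, hx, rfl⟩ := hba hy
        exact ⟨x, ⟨ha hx, hy⟩, rfl⟩
    refine ⟨U ⊓ b.comap W₀.mkQ, inf_le_left, ⟨fun h0 => hb.1 ?_, fun x hx => ?_⟩, hmap⟩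
    · rw [← hmap, h0, Submodule.map_bot]
    · refine ⟨hU.2 x hx.1, ?_⟩
      change W₀.mkQ ((N + B) x) ∈ b
      have h3 : W₀.mkQ ((N + B) x) = W₀.mapQ W₀ N hN (W₀.mkQ x) := by
        simp [(Submodule.Quotient.mk_eq_zero W₀).mpr (hB.2 x)]
      rw [h3]
      exact hb.2 _ hx.2
  · intro a ha _
    rw [one_mul]
    let p : a →ₗ[K] (a.map W₀.mkQ : Submodule K (V ⧸ W₀)) :=
      (W₀.mkQ ∘ₗ a.subtype).codRestrict _ fun x => ⟨x, x.2, rfl⟩
    have hp : Function.Bijective p := by
      constructor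
      · rw [← LinearMap.ker_eq_bot, eq_bot_iff]
        intro x hx
        exact Subtype.ext (hinj a ha x x.2 (congrArg Subtype.val hx))
      · rintro ⟨_, x, hx, rfl⟩
        exact ⟨⟨x, hx⟩, rfl⟩
    rw [(LinearEquiv.ofBijective p hp).finrank_eq]

theorem card_invNZ_sum [Finite V] [Nontrivial V] (f : Module.End K V) :
    ∑ U ∈ univ.filter (InvNZ f), dimMobSub f U = (Module.finrank K V : ℂ) := by
  have h := mob_sum (S := InvNZ f) (s := fun U : Submodule K V => (Module.finrank K U : ℂ))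
    (invNZ_top f)
  simp only [le_top, and_true, finrank_top] at h
  exact h

theorem sum_invNZ_le [Finite V] (f : Module.End K V) (W₀ : Submodule K V)
    (hW : ∀ x ∈ W₀, f x ∈ W₀) :
    ∑ U ∈ univ.filter (fun U => InvNZ f U ∧ U ≤ W₀), dimMobSub f U = (Module.finrank K W₀ : ℂ) := by
  by_cases h0 : W₀ = ⊥
  · subst h0
    rw [finrank_bot, Nat.cast_zero]
    refine sum_eq_zero fun U hU => ?_
    simp only [mem_filter, mem_univ, true_and, le_bot_iff] at hU
    exact absurd hU.2 hU.1.1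
  · exact mob_sum (S := InvNZ f) (s := fun U : Submodule K V => (Module.finrank K U : ℂ)) ⟨h0, hW⟩

theorem sum_dimMob_block_zero_aux : ∀ (n : ℕ) (V : Type v) [AddCommGroup V] [Module K V] [Finite V]
    (_ : Module.finrank K V = n) (N : Module.End K V) (W₀ : Submodule K V), W₀ ≠ ⊥ → W₀ ≠ ⊤ →
    (∀ x ∈ W₀, N x ∈ W₀) → ∑ B : blockEnd W₀, dimMob (N + (B : Module.End K V)) = 0 := by
  intro n
  induction n using Nat.strong_induction_on with
  | _ n ih =>
  intro V _ _ _ hn N W₀ h0 h1 hN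
  have : Nontrivial V := by
    by_contra hV
    rw [not_nontrivial_iff_subsingleton] at hV
    exact h0 (Subsingleton.elim _ _)
  set Nb := W₀.mapQ W₀ N hN with hNb
  have : Nontrivial (V ⧸ W₀) := Submodule.Quotient.nontrivial_iff.mpr h1
  let G : Submodule K V → ℂ := fun U => ∑ B : blockEnd W₀,
    if InvNZ (N + (B : Module.End K V)) U ∧ U < ⊤ then dimMobSub (N + (B : Module.End K V)) U else 0
  let c : Submodule K V → ℂ := fun U => ∑ B : blockEnd W₀,
    if U ⊓ W₀ = ⊥ ∧ InvNZ (N + (B : Module.End K V)) U then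
      dimMobSub Nb (U.map W₀.mkQ) else 0
  have hG : ∀ U, G U = (Fintype.card (blockEnd W₀) : ℂ) *
      (if InvNZ N U ∧ U ≤ W₀ then dimMobSub N U else 0) + c U := by
    intro U
    by_cases hUb : U = ⊥
    · subst hUb
      simp only [G, c, InvNZ, ne_eq, not_true_eq_false, false_and, and_false, if_false,
        sum_const_zero, mul_zero, add_zero]
    by_cases hUW : U ≤ W₀
    · have hc : c U = 0 := sum_eq_zero fun B _ => if_neg fun h => hUb (by
        rw [← inf_eq_left.mpr hUW, h.1])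
      rw [hc, add_zero]
      have hlt : U < ⊤ := lt_of_le_of_lt hUW (lt_top_iff_ne_top.mpr h1)
      have hag : ∀ B : blockEnd W₀, ∀ x ∈ U, (N + (B : Module.End K V)) x = N x := fun B x hx => by
        rw [LinearMap.add_apply, B.2.1 x (hUW hx), add_zero]
      by_cases hi : InvNZ N U
      · rw [if_pos ⟨hi, hUW⟩]
        have hterm : ∀ B : blockEnd W₀,
            (if InvNZ (N + (B : Module.End K V)) U ∧ U < ⊤ then
              dimMobSub (N + (B : Module.End K V)) U else 0) = dimMobSub N U := fun B => by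
          rw [if_pos ⟨⟨hUb, fun x hx => by rw [hag B x hx]; exact hi.2 x hx⟩, hlt⟩,
            dimMobSub_congr hi (hag B)]
        show ∑ B : blockEnd W₀, _ = _
        rw [sum_congr rfl fun B _ => hterm B, sum_const, card_univ, nsmul_eq_mul]
      · rw [if_neg fun h => hi h.1, mul_zero]
        refine sum_eq_zero fun B _ => if_neg fun h => hi ⟨hUb, fun x hx => ?_⟩
        rw [← hag B x hx]
        exact h.1.2 x hx
    rw [if_neg fun h => hUW h.2, mul_zero, zero_add]
    by_cases hT : U ⊓ W₀ = ⊥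
    · have hlt : U < ⊤ := lt_top_iff_ne_top.mpr fun h => h0 (by rw [← hT, h, top_inf_eq])
      refine sum_congr rfl fun B _ => ?_
      by_cases hi : InvNZ (N + (B : Module.End K V)) U
      · rw [if_pos ⟨hi, hlt⟩, if_pos ⟨hT, hi⟩, dimMobSub_compl hN B.2 hi hT]
      · rw [if_neg fun h => hi h.1, if_neg fun h => hi h.2]
    have hc : c U = 0 := sum_eq_zero fun B _ => if_neg fun h => hT h.1
    rw [hc]
    by_cases hex : ∃ B : blockEnd W₀, InvNZ (N + (B : Module.End K V)) U ∧ U < ⊤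
    swap
    · push_neg at hex
      exact sum_eq_zero fun B _ => if_neg fun h => hex B h.1 h.2
    obtain ⟨B₀, hB₀, hlt⟩ := hex
    let HU : AddSubgroup (blockEnd W₀) :=
      { carrier := {B | ∀ x ∈ U, (B : Module.End K V) x ∈ U}
        zero_mem' := fun x _ => U.zero_mem
        add_mem' := fun {a b} ha hb x hx => U.add_mem (ha x hx) (hb x hx)
        neg_mem' := fun {a} ha x hx => by simpa using U.neg_mem (ha x hx) }
    let T : Submodule K U := W₀.comap U.subtype
    let res : HU →+ blockEnd T :=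
      { toFun := fun B => ⟨((B : blockEnd W₀) : Module.End K V).restrict B.2,
          fun x hx => Subtype.ext (B.1.2.1 x hx), fun x => B.1.2.2 x⟩
        map_zero' := rfl
        map_add' := fun a b => rfl }
    have hsurj : Function.Surjective res := by
      intro C
      let q : U →ₗ[K] V ⧸ W₀ := W₀.mkQ ∘ₗ U.subtype
      have hker : LinearMap.ker q ≤ LinearMap.ker ((C : Module.End K U).codRestrict T C.2.2) :=
        fun x hx => Subtype.ext (C.2.1 x ((Submodule.Quotient.mk_eq_zero W₀).mp hx))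
      obtain ⟨g, hg⟩ := LinearMap.exists_extend
        (((LinearMap.ker q).liftQ _ hker) ∘ₗ q.quotKerEquivRange.symm.toLinearMap)
      have hgq : ∀ x : U, ((g (q x) : U) : V) = ((C : Module.End K U) x : V) := by
        intro x
        have h2 : g (q x) = _ := LinearMap.congr_fun hg ⟨q x, x, rfl⟩
        rw [h2, LinearMap.comp_apply, LinearEquiv.coe_toLinearMap,
          show (⟨q x, x, rfl⟩ : LinearMap.range q) = q.quotKerEquivRange (Submodule.Quotient.mk x)
            from Subtype.ext (by simp [LinearMap.quotKerEquivRange_apply_mk]),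
          LinearEquiv.symm_apply_apply, Submodule.liftQ_apply]
        rfl
      let B : Module.End K V := U.subtype ∘ₗ T.subtype ∘ₗ g ∘ₗ W₀.mkQ
      have hB : B ∈ blockEnd W₀ := ⟨fun x hx => by
        simp [B, (Submodule.Quotient.mk_eq_zero W₀).mpr hx], fun x => (g (W₀.mkQ x)).2⟩
      refine ⟨⟨⟨B, hB⟩, fun x _ => ((g (W₀.mkQ x) : T) : U).2⟩, ?_⟩
      apply Subtype.ext
      apply LinearMap.ext
      intro x
      exact Subtype.ext (hgq x)
    let N' : Module.End K U := (N + (B₀ : Module.End K V)).restrict hB₀.2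
    have hterm : ∀ h : HU, dimMobSub (N + ((B₀ + h : blockEnd W₀) : Module.End K V)) U
        = dimMob (N' + (res h : Module.End K U)) := by
      intro h
      have hi : InvNZ (N + ((B₀ + h : blockEnd W₀) : Module.End K V)) U := ⟨hUb, fun x hx => by
        rw [AddSubgroup.coe_add, ← add_assoc]
        exact U.add_mem (hB₀.2 x hx) (h.2 x hx)⟩
      rw [dimMobSub_restrict hi]
      congr 1
      apply LinearMap.ext
      intro x
      apply Subtype.ext
      simp [N', res, add_assoc]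
      rfl
    have hlt' : Module.finrank K U < n := hn ▸ Submodule.finrank_lt hlt.ne
    have hT0 : T ≠ ⊥ := by
      intro h
      apply hT
      rw [eq_bot_iff]
      rintro x ⟨hxU, hxW⟩
      have : (⟨x, hxU⟩ : U) ∈ T := hxW
      rw [h] at this
      exact congrArg Subtype.val this
    have hT1 : T ≠ ⊤ := fun h => hUW fun x hx => by
      have : (⟨x, hx⟩ : U) ∈ T := h ▸ Submodule.mem_top
      exact this
    have hNT : ∀ x ∈ T, N' x ∈ T := fun x hx => by
      change (N + (B₀ : Module.End K V)) (x : V) ∈ W₀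
      exact W₀.add_mem (hN _ hx) (B₀.2.2 _)
    have hz := ih _ hlt' U rfl N' T hT0 hT1 hNT
    calc G U = ∑ h : HU, dimMobSub (N + ((B₀ + h : blockEnd W₀) : Module.End K V)) U := by
          simp only [G]
          rw [← Finset.sum_filter]
          refine (sum_bij (fun (h : HU) _ => B₀ + (h : blockEnd W₀)) ?_ ?_ ?_ ?_).symm
          · intro h _
            simp only [mem_filter, mem_univ, true_and]
            refine ⟨⟨hUb, fun x hx => ?_⟩, hlt⟩
            rw [AddSubgroup.coe_add, ← add_assoc]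
            exact U.add_mem (hB₀.2 x hx) (h.2 x hx)
          · intro a _ b _ h
            exact Subtype.ext (add_left_cancel h)
          · intro B hB
            simp only [mem_filter, mem_univ, true_and] at hB
            refine ⟨⟨-B₀ + B, fun x hx => ?_⟩, mem_univ _, by simp⟩
            have e : ((-B₀ + B : blockEnd W₀) : Module.End K V) x =
                (N + (B : Module.End K V)) x - (N + (B₀ : Module.End K V)) x := by
              simp only [AddSubgroup.coe_add, AddSubgroup.coe_neg, LinearMap.add_apply,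
                LinearMap.neg_apply]
              abel
            rw [e]
            exact U.sub_mem (hB.1.2 x hx) (hB₀.2 x hx)
          · intro h _
            rfl
      _ = ∑ h : HU, dimMob (N' + (res h : Module.End K U)) := sum_congr rfl fun h _ => hterm h
      _ = 0 := by
        rw [← Finset.sum_fiberwise univ res]
        have : ∀ C : blockEnd T, (univ.filter fun h => res h = C).card
            = (univ.filter fun h => res h = 0).card := fun C =>
          AddMonoidHom.card_fiber_eq_of_mem_range res (hsurj C) (hsurj 0)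
        rw [sum_congr rfl fun C _ => (sum_congr rfl fun h hh => by
          rw [(mem_filter.mp hh).2]).trans (sum_const _), sum_congr rfl fun C _ => by rw [this C],
          ← smul_sum, hz, smul_zero]
  have hrec : ∀ B : blockEnd W₀, dimMob (N + (B : Module.End K V)) = (n : ℂ) -
      ∑ U : Submodule K V, if InvNZ (N + (B : Module.End K V)) U ∧ U < ⊤ then
        dimMobSub (N + (B : Module.End K V)) U else 0 := fun B => by
    rw [dimMob, dimMobSub, subMob, mob_eq, ← Finset.sum_filter, finrank_top, hn]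
  rw [sum_congr rfl fun B _ => hrec B, sum_sub_distrib, sum_const, card_univ, nsmul_eq_mul,
    sum_comm]
  change (Fintype.card (blockEnd W₀) : ℂ) * n - ∑ U, G U = 0
  rw [sum_congr rfl fun U _ => hG U, sum_add_distrib, ← mul_sum, ← Finset.sum_filter,
    sum_invNZ_le N W₀ hN]
  have hcsum : ∑ U, c U = (Fintype.card (blockEnd W₀) : ℂ) * (Module.finrank K (V ⧸ W₀) : ℂ) := by
    simp only [c]
    rw [sum_comm]
    rw [← Fintype.sum_prod_type' fun (B : blockEnd W₀) (U : Submodule K V) =>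
      if U ⊓ W₀ = ⊥ ∧ InvNZ (N + (B : Module.End K V)) U then
        dimMobSub Nb (U.map W₀.mkQ) else 0, ← Finset.sum_filter,
      ← Finset.sum_fiberwise_of_maps_to (t := univ.filter (InvNZ Nb))
        (g := fun p : blockEnd W₀ × Submodule K V => p.2.map W₀.mkQ) (fun p hp => by
          simp only [mem_filter, mem_univ, true_and] at hp ⊢
          exact map_mkQ_invNZ hN p.1.2 hp.2 hp.1), ← card_invNZ_sum Nb, mul_sum]
    refine sum_congr rfl fun S hS => ?_
    simp only [mem_filter, mem_univ, true_and] at hS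
    rw [sum_congr rfl fun p hp => by rw [(mem_filter.mp hp).2], sum_const, nsmul_eq_mul,
      Finset.filter_filter, ← Fintype.card_subtype, ← Nat.card_eq_fintype_card,
      card_compl_pairs hN hS, Nat.card_eq_fintype_card]
  rw [hcsum]
  have h2 := W₀.finrank_quotient_add_finrank
  rw [hn] at h2
  rw [← h2]
  push_cast
  ring

/-- The averaging identity. -/
theorem sum_dimMob_block_zero [Finite V] (N : Module.End K V) (W₀ : Submodule K V)
    (h0 : W₀ ≠ ⊥) (h1 : W₀ ≠ ⊤) (hN : ∀ x ∈ W₀, N x ∈ W₀) :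
    ∑ B : blockEnd W₀, dimMob (N + (B : Module.End K V)) = 0 :=
  sum_dimMob_block_zero_aux _ V rfl N W₀ h0 h1 hN

end Cfsg.Lib.Cuspidal
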