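import Mathlib

/-!
# Moebius inversion on lattices of invariant subspaces

`mob S s` is the function on a finite order whose partial sums over the members of `S` below
a member `x` of `S` give `s x`.
-/

set_option autoImplicit false

namespace Cfsg.Lib.Cuspidal

attribute [local instance] Fintype.ofFinite

open scoped Classical
open Finset

instance (priority := low) finiteLinearMapInst {K V W : Type*} [Semiring K] [AddCommMonoid V]
    [Module K V] [AddCommMonoid W] [Module K W] [Finite V] [Finite W] : Finite (V →ₗ[K] W) :=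
  DFunLike.finite _

section Order

variable {α : Type*} [PartialOrder α] [Finite α]

/-- Moebius inversion of `s` over the members of `S`. -/
noncomputable def mob (S : α → Prop) (s : α → ℂ) : α → ℂ :=
  (wellFounded_lt (α := α)).fix fun x ih => s x - ∑ y : {y : α // S y ∧ y < x}, ih y.1 y.2.2

variable {S : α → Prop} {s : α → ℂ}

theorem mob_eq (x : α) :
    mob S s x = s x - ∑ y ∈ univ.filter (fun y => S y ∧ y < x), mob S s y := by
  rw [mob, WellFounded.fix_eq]
  congr 1
  exact (Finset.sum_subtype (univ.filter fun y => S y ∧ y < x) (by simp) (fun y => mob S s y)).symm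

theorem mob_sum {x : α} (hx : S x) :
    ∑ y ∈ univ.filter (fun y => S y ∧ y ≤ x), mob S s y = s x := by
  have h : univ.filter (fun y => S y ∧ y ≤ x) = insert x (univ.filter fun y => S y ∧ y < x) := by
    ext y
    simp only [mem_filter, mem_univ, true_and, mem_insert]
    constructor
    · rintro ⟨hy, hle⟩
      rcases hle.eq_or_lt with h | h
      · exact Or.inl h
      · exact Or.inr ⟨hy, h⟩
    · rintro (rfl | ⟨hy, hlt⟩)
      · exact ⟨hx, le_rfl⟩
      · exact ⟨hy, hlt.le⟩
  rw [h, sum_insert (by simp), mob_eq x]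
  ring

theorem mob_unique {g : α → ℂ} {x : α}
    (h : ∀ z, z ≤ x → S z → ∑ y ∈ univ.filter (fun y => S y ∧ y ≤ z), g y = s z) :
    ∀ z, z ≤ x → S z → g z = mob S s z := by
  intro z
  induction z using WellFoundedLT.induction with
  | _ z ih =>
    intro hzx hz
    have h1 := h z hzx hz
    have hset : univ.filter (fun y => S y ∧ y ≤ z) = insert z (univ.filter fun y => S y ∧ y < z) := by
      ext y
      simp only [mem_filter, mem_univ, true_and, mem_insert]
      constructor
      · rintro ⟨hy, hle⟩
        rcases hle.eq_or_lt with h | h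
        · exact Or.inl h
        · exact Or.inr ⟨hy, h⟩
      · rintro (rfl | ⟨hy, hlt⟩)
        · exact ⟨hz, le_rfl⟩
        · exact ⟨hy, hlt.le⟩
    rw [hset, sum_insert (by simp)] at h1
    have h2 : ∑ y ∈ univ.filter (fun y => S y ∧ y < z), g y
        = ∑ y ∈ univ.filter (fun y => S y ∧ y < z), mob S s y := sum_congr rfl fun y hy => by
      simp only [mem_filter, mem_univ, true_and] at hy
      exact ih y hy.2 (hy.2.le.trans hzx) hy.1
    rw [mob_eq z, ← h2, ← h1]
    ring

theorem mob_transport {β : Type*} [PartialOrder β] [Finite β] {T : β → Prop} {t : β → ℂ}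
    (φ : α → β) (c : ℂ) (x₀ : α)
    (hS : ∀ a, a ≤ x₀ → S a → T (φ a))
    (hmono : ∀ a b, a ≤ x₀ → b ≤ x₀ → S a → S b → (φ a ≤ φ b ↔ a ≤ b))
    (hsurj : ∀ a, a ≤ x₀ → S a → ∀ b, T b → b ≤ φ a → ∃ a', a' ≤ x₀ ∧ S a' ∧ φ a' = b)
    (ht : ∀ a, a ≤ x₀ → S a → t (φ a) = c * s a) :
    ∀ a, a ≤ x₀ → S a → mob T t (φ a) = c * mob S s a := by
  intro a
  induction a using WellFoundedLT.induction with
  | _ a ih =>
    intro hax ha
    rw [mob_eq (φ a), mob_eq a, ht a hax ha, mul_sub, Finset.mul_sum]
    congr 1
    symm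
    refine sum_bij (fun y _ => φ y) ?_ ?_ ?_ ?_
    · intro y hy
      simp only [mem_filter, mem_univ, true_and] at hy ⊢
      have hyx := hy.2.le.trans hax
      refine ⟨hS y hyx hy.1, lt_of_le_not_ge ((hmono y a hyx hax hy.1 ha).mpr hy.2.le) fun h => ?_⟩
      exact hy.2.not_ge ((hmono a y hax hyx ha hy.1).mp h)
    · intro y hy z hz h
      simp only [mem_filter, mem_univ, true_and] at hy hz
      have hyx := hy.2.le.trans hax
      have hzx := hz.2.le.trans hax
      exact le_antisymm ((hmono y z hyx hzx hy.1 hz.1).mp h.le)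
        ((hmono z y hzx hyx hz.1 hy.1).mp h.ge)
    · intro b hb
      simp only [mem_filter, mem_univ, true_and] at hb
      obtain ⟨a', ha'x, ha', rfl⟩ := hsurj a hax ha b hb.1 hb.2.le
      refine ⟨a', ?_, rfl⟩
      simp only [mem_filter, mem_univ, true_and]
      refine ⟨ha', lt_of_le_not_ge ((hmono a' a ha'x hax ha' ha).mp hb.2.le) fun h => ?_⟩
      exact hb.2.not_ge ((hmono a a' hax ha'x ha ha').mpr h)
    · intro y hy
      simp only [mem_filter, mem_univ, true_and] at hy
      exact (ih y hy.2 (hy.2.le.trans hax) hy.1).symm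

end Order

section Subspaces

variable {K V : Type*} [Field K] [AddCommGroup V] [Module K V]

/-- `U` is a nonzero subspace invariant under `f`. -/
def InvNZ (f : Module.End K V) (U : Submodule K V) : Prop := U ≠ ⊥ ∧ ∀ x ∈ U, f x ∈ U

theorem invNZ_top [Nontrivial V] (f : Module.End K V) : InvNZ f ⊤ :=
  ⟨top_ne_bot, fun _ _ => Submodule.mem_top⟩

variable [Finite V]

/-- Moebius inversion on the invariant subspaces. -/
noncomputable def subMob (f : Module.End K V) (s : Submodule K V → ℂ) : Submodule K V → ℂ :=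
  mob (InvNZ f) s

theorem subMob_map {W : Type*} [AddCommGroup W] [Module K W] [Finite W] (ι : W →ₗ[K] V)
    (hι : Function.Injective ι) {f : Module.End K V} {g : Module.End K W}
    (hfg : ∀ x, f (ι x) = ι (g x)) {t : Submodule K V → ℂ} {s : Submodule K W → ℂ} (c : ℂ)
    (hts : ∀ U, InvNZ g U → t (U.map ι) = c * s U) {U : Submodule K W} (hU : InvNZ g U) :
    subMob f t (U.map ι) = c * subMob g s U := by
  refine mob_transport (fun U => U.map ι) c ⊤ ?_ ?_ ?_ (fun a _ ha => hts a ha) U le_top hU
  · intro a _ ha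
    refine ⟨fun h => ha.1 ?_, ?_⟩
    · exact Submodule.map_injective_of_injective hι (h.trans (Submodule.map_bot ι).symm)
    · rintro _ ⟨y, hy, rfl⟩
      exact ⟨g y, ha.2 y hy, (hfg y).symm⟩
  · intro a b _ _ _ _
    exact Submodule.map_le_map_iff_of_injective hι a b
  · intro a _ _ b hb hba
    have hb' : (b.comap ι).map ι = b :=
      Submodule.map_comap_eq_of_le (hba.trans LinearMap.map_le_range)
    refine ⟨b.comap ι, le_top, ⟨fun h => hb.1 ?_, fun y hy => ?_⟩, hb'⟩
    · rw [← hb', h, Submodule.map_bot]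
    · change ι (g y) ∈ b
      rw [← hfg]
      exact hb.2 _ hy

theorem subMob_congr {f f' : Module.End K V} {t t' : Submodule K V → ℂ} {U : Submodule K V}
    (hU : InvNZ f U) (h : ∀ x ∈ U, f' x = f x)
    (ht : ∀ U' ≤ U, InvNZ f U' → t' U' = t U') :
    subMob f' t' U = subMob f t U := by
  have := mob_transport (S := InvNZ f) (s := t) (T := InvNZ f') (t := t') id 1 U ?_ ?_ ?_ ?_ U le_rfl hU
  · rw [one_mul] at this
    exact this
  · intro a ha hfa
    exact ⟨hfa.1, fun x hx => by rw [h x (ha hx)]; exact hfa.2 x hx⟩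
  · intro a b _ _ _ _
    rfl
  · intro a ha _ b hb hba
    exact ⟨b, le_trans hba ha,
      ⟨hb.1, fun x hx => by rw [← h x (ha (hba hx))]; exact hb.2 x hx⟩, rfl⟩
  · intro a ha hfa
    rw [one_mul]
    exact ht a ha hfa

theorem subMob_eq_zero_of_split {f : Module.End K V} {s : Submodule K V → ℂ}
    {A B : Submodule K V} (hA : ∀ x ∈ A, f x ∈ A) (hB : ∀ x ∈ B, f x ∈ B) (hAB : Disjoint A B)
    (hsplit : ∀ U, InvNZ f U → U ≤ U ⊓ A ⊔ U ⊓ B)
    (hadd : ∀ a b, InvNZ f a → InvNZ f b → Disjoint a b → s (a ⊔ b) = s a + s b) :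
    ∀ U, InvNZ f U → U ⊓ A ≠ ⊥ → U ⊓ B ≠ ⊥ → subMob f s U = 0 := by
  intro U
  induction U using WellFoundedLT.induction with
  | _ U ih =>
    intro hU ha hb
    have hiA : InvNZ f (U ⊓ A) := ⟨ha, fun x hx => ⟨hU.2 x hx.1, hA x hx.2⟩⟩
    have hiB : InvNZ f (U ⊓ B) := ⟨hb, fun x hx => ⟨hU.2 x hx.1, hB x hx.2⟩⟩
    have hsum := mob_sum (S := InvNZ f) (s := s) hU
    have hU' : U ⊓ A ⊔ U ⊓ B = U := le_antisymm (sup_le inf_le_left inf_le_left) (hsplit U hU)
    have hkey : ∀ y : Submodule K V, (if InvNZ f y ∧ y ≤ U then subMob f s y else 0) =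
        (if y = U then subMob f s y else 0) + (if InvNZ f y ∧ y ≤ U ⊓ A then subMob f s y else 0)
          + (if InvNZ f y ∧ y ≤ U ⊓ B then subMob f s y else 0) := by
      intro y
      by_cases hy : InvNZ f y ∧ y ≤ U
      swap
      · rw [if_neg hy, if_neg (fun h : y = U => hy ⟨h ▸ hU, h.le⟩),
          if_neg (fun h => hy ⟨h.1, h.2.trans inf_le_left⟩),
          if_neg (fun h => hy ⟨h.1, h.2.trans inf_le_left⟩)]
        ring
      rw [if_pos hy]
      by_cases hyU : y = U
      · subst hyU
        rw [if_pos rfl, if_neg, if_neg]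
        · ring
        · rintro ⟨-, h⟩
          apply ha
          rw [← le_bot_iff, ← hAB.eq_bot]
          exact le_inf inf_le_right (inf_le_left.trans (h.trans inf_le_right))
        · rintro ⟨-, h⟩
          apply hb
          rw [← le_bot_iff, ← hAB.eq_bot]
          exact le_inf (inf_le_left.trans (h.trans inf_le_right)) inf_le_right
      rw [if_neg hyU]
      by_cases hyA : y ⊓ A = ⊥
      · have hle : y ≤ U ⊓ B := by
          refine le_inf hy.2 ?_
          have := hsplit y hy.1
          rw [hyA, bot_sup_eq] at this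
          exact this.trans inf_le_right
        have hnot : ¬ y ≤ U ⊓ A := fun h => hy.1.1 (by
          rw [← inf_eq_left.mpr (h.trans inf_le_right), hyA])
        rw [if_neg (fun h => hnot h.2), if_pos ⟨hy.1, hle⟩]
        ring
      by_cases hyB : y ⊓ B = ⊥
      · have hle : y ≤ U ⊓ A := by
          refine le_inf hy.2 ?_
          have := hsplit y hy.1
          rw [hyB, sup_bot_eq] at this
          exact this.trans inf_le_right
        have hnot : ¬ y ≤ U ⊓ B := fun h => hy.1.1 (by
          rw [← inf_eq_left.mpr (h.trans inf_le_right), hyB])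
        rw [if_pos ⟨hy.1, hle⟩, if_neg (fun h => hnot h.2)]
        ring
      rw [ih y (lt_of_le_of_ne hy.2 hyU) hy.1 hyA hyB]
      split_ifs <;> ring
    unfold subMob at hkey ⊢
    rw [Finset.sum_filter, Finset.sum_congr rfl (fun y _ => hkey y), Finset.sum_add_distrib,
      Finset.sum_add_distrib, Finset.sum_ite_eq' univ U, if_pos (mem_univ U), ← Finset.sum_filter,
      ← Finset.sum_filter] at hsum
    rw [mob_sum hiA, mob_sum hiB] at hsum
    have h2 := hadd _ _ hiA hiB (hAB.mono inf_le_right inf_le_right)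
    rw [hU'] at h2
    linear_combination hsum + h2

/-- The Moebius inversion of the dimension function, on one subspace. -/
noncomputable def dimMobSub (f : Module.End K V) : Submodule K V → ℂ :=
  subMob f fun U => (Module.finrank K U : ℂ)

/-- The Moebius inversion of the dimension function at the whole space. -/
noncomputable def dimMob (f : Module.End K V) : ℂ := dimMobSub f ⊤

theorem dimMobSub_map {W : Type*} [AddCommGroup W] [Module K W] [Finite W] (ι : W →ₗ[K] V)
    (hι : Function.Injective ι) {f : Module.End K V} {g : Module.End K W}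
    (hfg : ∀ x, f (ι x) = ι (g x)) {U : Submodule K W} (hU : InvNZ g U) :
    dimMobSub f (U.map ι) = dimMobSub g U := by
  unfold dimMobSub
  rw [subMob_map ι hι hfg (s := fun U => (Module.finrank K U : ℂ)) 1 ?_ hU, one_mul]
  intro a _
  rw [one_mul, ← (Submodule.equivMapOfInjective ι hι a).finrank_eq]

theorem dimMobSub_restrict {f : Module.End K V} {U : Submodule K V} (hU : InvNZ f U) :
    dimMobSub f U = dimMob (f.restrict hU.2) := by
  have : Nontrivial U := Submodule.nontrivial_iff_ne_bot.mpr hU.1
  rw [dimMob, ← dimMobSub_map U.subtype Subtype.val_injective (f := f) (g := f.restrict hU.2)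
    (fun x => rfl) (invNZ_top _), Submodule.map_top, Submodule.range_subtype]

theorem dimMob_intertwine {W : Type*} [AddCommGroup W] [Module K W] [Finite W] [Nontrivial W]
    (e : W ≃ₗ[K] V) {f : Module.End K V} {g : Module.End K W}
    (hfg : ∀ x, f (e x) = e (g x)) : dimMob f = dimMob g := by
  rw [dimMob, dimMob, ← dimMobSub_map e.toLinearMap e.injective (f := f) hfg (invNZ_top g),
    Submodule.map_top, LinearEquiv.range]

theorem dimMobSub_congr {f f' : Module.End K V} {U : Submodule K V} (hU : InvNZ f U)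
    (h : ∀ x ∈ U, f' x = f x) : dimMobSub f' U = dimMobSub f U :=
  subMob_congr hU h fun _ _ _ => rfl

theorem dimMob_add_smul_one [Nontrivial V] (f : Module.End K V) (a : K) :
    dimMob (f + a • 1) = dimMob f := by
  have h : ∀ U : Submodule K V, InvNZ (f + a • 1) U ↔ InvNZ f U := by
    intro U
    refine and_congr_right fun _ => ⟨fun h x hx => ?_, fun h x hx => ?_⟩
    · have h1 : f x + a • x ∈ U := by simpa using h x hx
      simpa using U.sub_mem h1 (U.smul_mem a hx)
    · simpa using U.add_mem (h x hx) (U.smul_mem a hx)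
  rw [dimMob, dimMob, dimMobSub, dimMobSub, subMob, subMob,
    show InvNZ (f + a • 1) = InvNZ f from funext fun U => propext (h U)]

end Subspaces

end Cfsg.Lib.Cuspidal
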