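import Cfsg.Agent.Cuspidal.RootSum

/-!
# The elements with a given primary polynomial

A primary element for `π` is conjugate to multiplication by the root of `π` plus a nilpotent
map linear over `AdjoinRoot π`.
-/

set_option autoImplicit false

namespace Cfsg.Lib.Cuspidal

attribute [local instance] Fintype.ofFinite

open scoped Classical
open Finset Polynomial

universe u v

theorem expand_card_pow_iter {K : Type u} [Field K] [Finite K] (f : K[X]) (t : ℕ) :
    expand K (Nat.card K ^ t) f = f ^ (Nat.card K ^ t) := by
  induction t with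
  | zero => simp
  | succ t ih =>
    rw [pow_succ', expand_mul, ih, map_pow, Nat.card_eq_fintype_card, FiniteField.expand_card,
      ← pow_mul]

theorem aeval_pow_card_pow {K : Type u} [Field K] [Finite K] {A : Type*} [Ring A] [Algebra K A]
    (a : A) (f : K[X]) (t : ℕ) :
    aeval (a ^ (Nat.card K ^ t)) f = aeval a f ^ (Nat.card K ^ t) := by
  rw [← map_pow, ← expand_card_pow_iter, expand_aeval]

section

variable {K : Type u} [Field K] {W : Type v} [AddCommGroup W] [Module K W] [FiniteDimensional K W]

theorem pow_eq_zero_of_finrank_le {N : Module.End K W} (hN : IsNilpotent N) {e : ℕ}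
    (he : Module.finrank K W ≤ e) : N ^ e = 0 := by
  have h := LinearMap.aeval_self_charpoly N
  rw [hN.charpoly_eq_X_pow_finrank, map_pow, aeval_X] at h
  exact pow_eq_zero_of_le he h

theorem add_smul_one_pow_card [Finite K] {N : Module.End K W} (hN : IsNilpotent N) (a : K) {t : ℕ}
    (ht : Module.finrank K W ≤ t) : (N + a • 1) ^ (Nat.card K ^ t) = a • 1 := by
  have h := aeval_pow_card_pow N (X + C a) t
  simp only [map_add, aeval_X, aeval_C, Algebra.algebraMap_eq_smul_one] at h
  rw [← h, pow_eq_zero_of_finrank_le hN (ht.trans (Nat.lt_pow_self Finite.one_lt_card).le), zero_add]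

end

variable {F : Type u} [Field F] {π : F[X]}

theorem finrank_adjoinRoot (hπi : Irreducible π) :
    Module.finrank F (AdjoinRoot π) = π.natDegree := by
  rw [(AdjoinRoot.powerBasis hπi.ne_zero).finrank, AdjoinRoot.powerBasis_dim]

theorem map_smul_of_comm_root {M : Type*} [AddCommGroup M] [Module F M] [Module (AdjoinRoot π) M]
    [IsScalarTower F (AdjoinRoot π) M] {M' : Type*} [AddCommGroup M'] [Module F M']
    [Module (AdjoinRoot π) M'] [IsScalarTower F (AdjoinRoot π) M'] (f : M →ₗ[F] M')
    (h : ∀ x, f (AdjoinRoot.root π • x) = AdjoinRoot.root π • f x) (c : AdjoinRoot π) :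
    ∀ x, f (c • x) = c • f x := by
  induction c using AdjoinRoot.induction_on with
  | ih p =>
    induction p using Polynomial.induction_on' with
    | add p q hp hq => intro x; rw [map_add, add_smul, add_smul, map_add, hp, hq]
    | monomial m a =>
      intro x
      rw [← C_mul_X_pow_eq_monomial, map_mul, map_pow, AdjoinRoot.mk_C, AdjoinRoot.mk_X,
        ← AdjoinRoot.algebraMap_eq, mul_smul, mul_smul, algebraMap_smul, algebraMap_smul, map_smul]
      congr 1
      induction m generalizing x with
      | zero => simp
      | succ m ih => rw [pow_succ, mul_smul, ih, h, mul_smul]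

/-- The model map: multiplication by the root plus a nilpotent map. -/
noncomputable def modelEnd {W : Type*} [AddCommGroup W] [Module F W] [Module (AdjoinRoot π) W]
    [IsScalarTower F (AdjoinRoot π) W] (N : Module.End (AdjoinRoot π) W) : Module.End F W :=
  (N + AdjoinRoot.root π • 1).restrictScalars F

theorem modelEnd_apply {W : Type*} [AddCommGroup W] [Module F W] [Module (AdjoinRoot π) W]
    [IsScalarTower F (AdjoinRoot π) W] (N : Module.End (AdjoinRoot π) W) (x : W) :
    modelEnd N x = N x + AdjoinRoot.root π • x := rfl

variable [Finite F]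

theorem natCard_adjoinRoot (hπi : Irreducible π) :
    Nat.card (AdjoinRoot π) = Nat.card F ^ π.natDegree := by
  haveI := Fact.mk hπi
  haveI : Module.Finite F (AdjoinRoot π) := (AdjoinRoot.powerBasis hπi.ne_zero).finite
  haveI : Finite (AdjoinRoot π) := Module.finite_of_finite F
  rw [Module.natCard_eq_pow_finrank (K := F) (V := AdjoinRoot π), finrank_adjoinRoot hπi]

theorem finite_adjoinRoot (hπi : Irreducible π) : Finite (AdjoinRoot π) :=
  haveI : Module.Finite F (AdjoinRoot π) := (AdjoinRoot.powerBasis hπi.ne_zero).finite
  Module.finite_of_finite F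

theorem modelEnd_pow_apply (hπi : Irreducible π) {W : Type*} [AddCommGroup W] [Module F W]
    [Module (AdjoinRoot π) W] [IsScalarTower F (AdjoinRoot π) W] [Finite W]
    {N : Module.End (AdjoinRoot π) W} (hN : IsNilpotent N) {t : ℕ}
    (ht : Module.finrank F W ≤ t) (x : W) :
    (modelEnd N ^ (Nat.card F ^ (π.natDegree * t))) x = AdjoinRoot.root π • x := by
  haveI := Fact.mk hπi
  haveI := finite_adjoinRoot hπi
  have hp : ∀ j y, (modelEnd N ^ j) y = ((N + AdjoinRoot.root π • 1) ^ j) y := by
    intro j
    induction j with
    | zero => exact fun y => rfl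
    | succ j ih => intro y; rw [pow_succ', pow_succ', Module.End.mul_apply, Module.End.mul_apply, ih]; rfl
  have hd : Module.finrank (AdjoinRoot π) W ≤ t := by
    refine le_trans ?_ ht
    rw [← Module.finrank_mul_finrank F (AdjoinRoot π) W, finrank_adjoinRoot hπi]
    exact Nat.le_mul_of_pos_left _ hπi.natDegree_pos
  rw [hp, pow_mul, ← natCard_adjoinRoot hπi, add_smul_one_pow_card hN _ hd]
  rfl

theorem dimMob_model (hπi : Irreducible π) {W : Type*} [AddCommGroup W] [Module F W]
    [Module (AdjoinRoot π) W] [IsScalarTower F (AdjoinRoot π) W] [Finite W] [Nontrivial W]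
    [Fact (Irreducible π)]
    {N : Module.End (AdjoinRoot π) W} (hN : IsNilpotent N) :
    dimMob (modelEnd N) = (π.natDegree : ℂ) * dimMob N := by
  haveI := finite_adjoinRoot hπi
  unfold dimMob dimMobSub subMob
  have h := mob_transport (S := InvNZ N)
    (s := fun U : Submodule (AdjoinRoot π) W => (Module.finrank (AdjoinRoot π) U : ℂ))
    (T := InvNZ (modelEnd N)) (t := fun U : Submodule F W => (Module.finrank F U : ℂ))
    (fun U => U.restrictScalars F) (π.natDegree : ℂ) ⊤ ?_ (fun a b _ _ _ _ => Iff.rfl) ?_ ?_ ⊤
    le_rfl (invNZ_top N)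
  · rw [Submodule.restrictScalars_top] at h
    exact h
  · intro a _ ha
    refine ⟨fun h0 => ha.1 (Submodule.restrictScalars_injective F (AdjoinRoot π) W
      (h0.trans (Submodule.restrictScalars_bot F (AdjoinRoot π) W).symm)), fun x hx => ?_⟩
    exact a.add_mem (ha.2 x hx) (a.smul_mem _ hx)
  · intro a _ _ b hb _
    have hroot : ∀ x ∈ b, AdjoinRoot.root π • x ∈ b := by
      intro x hx
      rw [← modelEnd_pow_apply hπi hN le_rfl x]
      have : ∀ j, ∀ y ∈ b, (modelEnd N ^ j) y ∈ b := by
        intro j
        induction j with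
        | zero => exact fun y hy => hy
        | succ j ih => intro y hy; rw [pow_succ', Module.End.mul_apply]; exact hb.2 _ (ih y hy)
      exact this _ x hx
    have hsmul : ∀ (c : AdjoinRoot π), ∀ x ∈ b, c • x ∈ b := by
      intro c
      induction c using AdjoinRoot.induction_on with
      | ih p =>
        induction p using Polynomial.induction_on' with
        | add p q hp hq => intro x hx; rw [map_add, add_smul]; exact b.add_mem (hp x hx) (hq x hx)
        | monomial m a =>
          intro x hx
          rw [← C_mul_X_pow_eq_monomial, map_mul, map_pow, AdjoinRoot.mk_C, AdjoinRoot.mk_X,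
            ← AdjoinRoot.algebraMap_eq, mul_smul, algebraMap_smul]
          refine b.smul_mem a ?_
          induction m generalizing x with
          | zero => simpa using hx
          | succ m ih => rw [pow_succ, mul_smul]; exact ih _ (hroot x hx)
    let b' : Submodule (AdjoinRoot π) W :=
      { carrier := b, zero_mem' := b.zero_mem, add_mem' := fun hx hy => b.add_mem hx hy
        smul_mem' := fun c x hx => hsmul c x hx }
    refine ⟨b', le_top, ⟨fun h0 => hb.1 ?_, fun x hx => ?_⟩, ?_⟩
    · rw [show b = b'.restrictScalars F from SetLike.ext fun y => Iff.rfl, h0,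
        Submodule.restrictScalars_bot]
    · have h1 := b.sub_mem (hb.2 x hx) (hroot x hx)
      rw [modelEnd_apply, add_sub_cancel_right] at h1
      exact h1
    · exact SetLike.ext fun y => Iff.rfl
  · intro a _ _
    rw [← Nat.cast_mul]
    congr 1
    rw [← finrank_adjoinRoot hπi]
    exact (Module.finrank_mul_finrank F (AdjoinRoot π) a).symm

/-- The primary decomposition count: the sum over the primary elements of `GL(V)` for `π`. -/
theorem sum_primary_eq [Fact (Irreducible π)] {V : Type v} [AddCommGroup V] [Module F V] [Finite V]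
    (hπ : π.Monic) (hπX : π ≠ X) {k : ℕ} (hk : π.natDegree * k = Module.finrank F V)
    (G : Module.End F V → ℂ) (G₀ : Module.End (AdjoinRoot π) (Fin k → AdjoinRoot π) → ℂ)
    (hG : ∀ (x : (Fin k → AdjoinRoot π) ≃ₗ[F] V) (g : Module.End F V)
      (N : Module.End (AdjoinRoot π) (Fin k → AdjoinRoot π)),
      IsNilpotent N → (∀ y, g (x y) = x (modelEnd N y)) → G g = G₀ N)
    [Finite (AdjoinRoot π)] :
    (Nat.card ((Fin k → AdjoinRoot π) ≃ₗ[AdjoinRoot π] (Fin k → AdjoinRoot π)) : ℂ) *
      ∑ g ∈ univ.filter (fun g : (Module.End F V)ˣ => IsNilpotent (aeval (g : Module.End F V) π)),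
        G g =
    (Nat.card (Module.End F V)ˣ : ℂ) *
      ∑ N ∈ univ.filter
        (fun N : Module.End (AdjoinRoot π) (Fin k → AdjoinRoot π) => IsNilpotent N), G₀ N := by
  have hπi : Irreducible π := Fact.out
  set K := AdjoinRoot π
  set W := Fin k → K
  set e := Nat.card F ^ (π.natDegree * Module.finrank F V) with he
  haveI : Finite (W ≃ₗ[F] V) := DFunLike.finite _
  haveI : Finite (W ≃ₗ[K] W) := DFunLike.finite _
  have hdim : Module.finrank F W = Module.finrank F V := by
    rw [← Module.finrank_mul_finrank F K W, finrank_adjoinRoot hπi, Module.finrank_fin_fun, hk]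
  have hroot0 : AdjoinRoot.root π ≠ 0 := by
    intro h
    rw [← AdjoinRoot.mk_X, AdjoinRoot.mk_eq_zero] at h
    exact hπX (eq_of_monic_of_associated hπ monic_X (hπi.associated_of_dvd irreducible_X h))
  -- every primary map is conjugate to a model
  have hmodel : ∀ g : Module.End F V, IsNilpotent (aeval g π) →
      ∃ (x : W ≃ₗ[F] V) (N : Module.End K W), IsNilpotent N ∧ ∀ y, g (x y) = x (modelEnd N y) := by
    intro g hg
    set s := g ^ e with hs
    have hps : aeval s π = 0 := by
      rw [hs, he, aeval_pow_card_pow]
      refine pow_eq_zero_of_finrank_le hg ?_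
      refine le_trans ?_ (Nat.lt_pow_self Finite.one_lt_card).le
      exact Nat.le_mul_of_pos_left _ hπi.natDegree_pos
    have hgs : IsNilpotent (g - s) := by
      have hdvd : π ∣ X ^ e - X :=
        hπi.natDegree_dvd_iff_dvd_X_pow_card_pow_sub_X.mp (dvd_mul_right _ _)
      obtain ⟨r, hr⟩ := hdvd
      have h1 : g - s = -(aeval g π * aeval g r) := by
        rw [← map_mul, ← hr, map_sub, map_pow, aeval_X, hs, neg_sub]
      rw [h1]
      refine IsNilpotent.neg (Commute.isNilpotent_mul_right ?_ hg)
      exact (Commute.all π r).map (aeval g)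
    let ψ : K →+* Module.End F V :=
      Ideal.Quotient.lift (Ideal.span {π}) (aeval s).toRingHom fun p hp => by
        obtain ⟨r, rfl⟩ := Ideal.mem_span_singleton.mp hp
        simp [hps]
    have hψroot : ψ (AdjoinRoot.root π) = s := aeval_X s
    letI : Module K V := Module.compHom V ψ
    haveI : IsScalarTower F K V := ⟨fun a c x => by
      change ψ (a • c) x = a • ψ c x
      rw [Algebra.smul_def, map_mul, Module.End.mul_apply,
        show ψ (algebraMap F K a) = algebraMap F (Module.End F V) a from aeval_C s a,
        Module.algebraMap_end_apply]⟩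
    have hkV : Module.finrank K W = Module.finrank K V := by
      rw [Module.finrank_fin_fun]
      refine Nat.eq_of_mul_eq_mul_left hπi.natDegree_pos ?_
      rw [hk, ← Module.finrank_mul_finrank F K V, finrank_adjoinRoot hπi]
    haveI : Module.Finite K V := Module.Finite.of_finite
    let x := (LinearEquiv.ofFinrankEq W V hkV).restrictScalars F
    have hx : ∀ (c : K) y, x (c • y) = ψ c (x y) := fun c y => (LinearEquiv.ofFinrankEq W V hkV).map_smul c y
    let M : Module.End F W := x.symm.conj (g - s)
    have hMc : ∀ y, M (AdjoinRoot.root π • y) = AdjoinRoot.root π • M y := by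
      intro y
      apply x.injective
      rw [hx, hψroot]
      simp only [M, LinearEquiv.conj_apply, LinearMap.comp_apply, LinearEquiv.coe_toLinearMap,
        LinearEquiv.symm_symm, LinearEquiv.apply_symm_apply, hx, hψroot]
      have hc : Commute (g - s) s := (Commute.self_pow g e).sub_left (Commute.refl s)
      exact LinearMap.congr_fun hc.eq (x y)
    let N : Module.End K W :=
      { toFun := M, map_add' := M.map_add, map_smul' := map_smul_of_comm_root M hMc }
    refine ⟨x, N, ?_, fun y => ?_⟩
    · obtain ⟨j, hj⟩ := hgs
      refine ⟨j, LinearMap.ext fun y => ?_⟩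
      have hp : ∀ i y, x ((N ^ i) y) = ((g - s) ^ i) (x y) := by
        intro i
        induction i with
        | zero => exact fun y => rfl
        | succ i ih =>
          intro y
          rw [pow_succ', pow_succ', Module.End.mul_apply, Module.End.mul_apply, ← ih]
          simp [N, M, LinearEquiv.conj_apply]
      apply x.injective
      rw [hp, hj]
      simp
    · rw [modelEnd_apply, map_add, hx, hψroot]
      simp [N, M, LinearEquiv.conj_apply]
  let P := {p : (W ≃ₗ[F] V) × Module.End K W // IsNilpotent p.2}
  let c : P → Module.End F V := fun p => p.1.1.conj (modelEnd p.1.2)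
  have hc : ∀ (p : P) y, c p (p.1.1 y) = p.1.1 (modelEnd p.1.2 y) := fun p y => by
    simp [c, LinearEquiv.conj_apply]
  have hpow : ∀ (p : P) y, ((c p) ^ e) (p.1.1 y) = p.1.1 (AdjoinRoot.root π • y) := by
    intro p y
    have : ∀ j y, ((c p) ^ j) (p.1.1 y) = p.1.1 ((modelEnd p.1.2 ^ j) y) := by
      intro j
      induction j with
      | zero => exact fun y => rfl
      | succ j ih => intro y; rw [pow_succ', pow_succ', Module.End.mul_apply, Module.End.mul_apply, ih, hc]
    rw [this, he, modelEnd_pow_apply hπi p.2 hdim.le]
  have hnil : ∀ p : P, IsNilpotent (aeval (c p) π) := by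
    intro p
    have h1 : aeval ((c p) ^ e) π = 0 := by
      apply LinearMap.ext
      intro v
      obtain ⟨y, rfl⟩ := p.1.1.surjective v
      have : ∀ r : F[X], aeval ((c p) ^ e) r (p.1.1 y) = p.1.1 (AdjoinRoot.mk π r • y) := by
        intro r
        induction r using Polynomial.induction_on' generalizing y with
        | add r r' hr hr' => rw [map_add, LinearMap.add_apply, hr, hr', map_add, add_smul, map_add]
        | monomial m a =>
          rw [aeval_monomial, Module.End.mul_apply, Module.algebraMap_end_apply,
            ← C_mul_X_pow_eq_monomial, map_mul, map_pow, AdjoinRoot.mk_C, AdjoinRoot.mk_X,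
            ← AdjoinRoot.algebraMap_eq, mul_smul, algebraMap_smul, map_smul]
          congr 1
          induction m generalizing y with
          | zero => simp
          | succ m ih => rw [pow_succ, Module.End.mul_apply, hpow, ih, pow_succ, mul_smul]
      rw [this, AdjoinRoot.mk_self, zero_smul, map_zero, LinearMap.zero_apply]
    rw [he, aeval_pow_card_pow] at h1
    exact ⟨_, h1⟩
  have hunit : ∀ p : P, IsUnit (c p) := by
    intro p
    rw [Module.End.isUnit_iff]
    have : Function.Injective (modelEnd (F := F) p.1.2) := by
      have hu : IsUnit (p.1.2 + AdjoinRoot.root π • (1 : Module.End K W)) := by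
        refine IsNilpotent.isUnit_add_right_of_commute p.2 ?_ ((Commute.one_right _).smul_right _)
        rw [← Algebra.algebraMap_eq_smul_one]
        exact (isUnit_iff_ne_zero.mpr hroot0).map _
      exact ((Module.End.isUnit_iff _).mp hu).injective
    have hinj : Function.Injective (c p) := by
      intro a b hab
      obtain ⟨a, rfl⟩ := p.1.1.surjective a
      obtain ⟨b, rfl⟩ := p.1.1.surjective b
      rw [hc, hc] at hab
      rw [this (p.1.1.injective hab)]
    exact Finite.injective_iff_bijective.mp hinj
  let Φ : P → (Module.End F V)ˣ := fun p => (hunit p).unit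
  set S := univ.filter (fun g : (Module.End F V)ˣ => IsNilpotent (aeval (g : Module.End F V) π))
    with hS
  have hfib : ∀ g ∈ S, (univ.filter fun p => Φ p = g).card = Nat.card (W ≃ₗ[K] W) := by
    intro g hg
    obtain ⟨x, N, hN, hxN⟩ := hmodel g (mem_filter.mp hg).2
    let act : (W ≃ₗ[K] W) → P := fun y => ⟨((y.restrictScalars F).trans x, y.symm.conj N), by
      obtain ⟨j, hj⟩ := hN
      exact ⟨j, (map_pow y.symm.conjRingEquiv N j).symm.trans (by rw [hj, map_zero])⟩⟩
    have hact : ∀ y, Φ (act y) = g := by
      intro y
      apply Units.ext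
      apply LinearMap.ext
      intro v
      obtain ⟨w, rfl⟩ := (act y).1.1.surjective v
      show c (act y) _ = _
      rw [hc]
      simp only [act, LinearEquiv.trans_apply, LinearEquiv.restrictScalars_apply, modelEnd_apply]
      rw [hxN, modelEnd_apply]
      congr 1
      simp [LinearEquiv.conj_apply]
    rw [← Fintype.card_subtype, ← Nat.card_eq_fintype_card]
    refine (Nat.card_congr (Equiv.ofBijective (fun y => (⟨act y, hact y⟩ : {p // Φ p = g}))
      ⟨fun a b h => ?_, ?_⟩)).symm
    · have h1 := congrArg (fun p => p.1.1.1) h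
      exact LinearEquiv.ext fun w => x.injective (LinearEquiv.congr_fun h1 w)
    · rintro ⟨p, hp⟩
      have hgp : c p = (g : Module.End F V) := congrArg Units.val hp
      let z : W ≃ₗ[F] W := p.1.1.trans x.symm
      have hgs : ∀ w, ((g : Module.End F V) ^ e) (x w) = x (AdjoinRoot.root π • w) := by
        intro w
        have := hpow ⟨(x, N), hN⟩ w
        rwa [show c ⟨(x, N), hN⟩ = (g : Module.End F V) from by
          apply LinearMap.ext
          intro v
          obtain ⟨v, rfl⟩ := x.surjective v
          rw [hxN]
          exact hc ⟨(x, N), hN⟩ v] at this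
      have hzc : ∀ w, z (AdjoinRoot.root π • w) = AdjoinRoot.root π • z w := by
        intro w
        apply x.injective
        rw [← hgs]
        simp only [z, LinearEquiv.trans_apply, LinearEquiv.apply_symm_apply]
        rw [← hgp, hpow]
      let y : W ≃ₗ[K] W :=
        { z with map_smul' := map_smul_of_comm_root z.toLinearMap hzc }
      refine ⟨y, Subtype.ext (Subtype.ext (Prod.ext ?_ ?_))⟩
      · exact LinearEquiv.ext fun w => by simp [act, y, z]
      · apply LinearMap.ext
        intro w
        apply y.injective
        show y (y.symm (N (y.symm.symm w))) = y (p.1.2 w)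
        rw [LinearEquiv.apply_symm_apply, LinearEquiv.symm_symm]
        have hyv : ∀ v, y v = x.symm (p.1.1 v) := fun v => rfl
        have h1 : x (modelEnd N (y w)) = p.1.1 (modelEnd p.1.2 w) := by
          rw [← hxN, ← hc, hgp, hyv, LinearEquiv.apply_symm_apply]
        rw [show p.1.1 (modelEnd p.1.2 w) = x (y (modelEnd p.1.2 w)) by simp [hyv]] at h1
        have h2 := x.injective h1
        rw [modelEnd_apply, modelEnd_apply, map_add, y.map_smul] at h2
        exact add_right_cancel h2
  have hmaps : ∀ p ∈ (univ : Finset P), Φ p ∈ S := fun p _ => by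
    simp only [S, mem_filter, mem_univ, true_and]
    exact hnil p
  have hsum : ∑ p : P, G (Φ p : Module.End F V) =
      (Nat.card (W ≃ₗ[K] W) : ℂ) * ∑ g ∈ S, G g := by
    rw [← Finset.sum_fiberwise_of_maps_to hmaps, mul_sum]
    refine sum_congr rfl fun g hg => ?_
    rw [sum_congr rfl fun p hp => by rw [(mem_filter.mp hp).2], sum_const, nsmul_eq_mul, hfib g hg]
  rw [← hsum]
  have hval : ∀ p : P, G (Φ p : Module.End F V) = G₀ p.1.2 := fun p =>
    hG p.1.1 _ p.1.2 p.2 fun y => hc p y
  rw [sum_congr rfl fun p _ => hval p]
  obtain ⟨x₀⟩ : Nonempty (W ≃ₗ[F] V) := ⟨LinearEquiv.ofFinrankEq W V hdim⟩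
  have hcardx : Nat.card (W ≃ₗ[F] V) = Nat.card (Module.End F V)ˣ :=
    Nat.card_congr
      { toFun := fun x => LinearMap.GeneralLinearGroup.ofLinearEquiv (x₀.symm.trans x)
        invFun := fun g => x₀.trans (LinearMap.GeneralLinearGroup.toLinearEquiv g)
        left_inv := fun x => LinearEquiv.ext fun w => by
          simp [LinearMap.GeneralLinearGroup.toLinearEquiv, LinearMap.GeneralLinearGroup.ofLinearEquiv]
        right_inv := fun g => Units.ext (LinearMap.ext fun w => by
          simp [LinearMap.GeneralLinearGroup.toLinearEquiv, LinearMap.GeneralLinearGroup.ofLinearEquiv]) }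
  have hprod : ∑ p : P, G₀ p.1.2 = ∑ x : W ≃ₗ[F] V,
      ∑ N ∈ univ.filter (fun N : Module.End K W => IsNilpotent N), G₀ N := by
    rw [← Finset.sum_product' univ (univ.filter fun N : Module.End K W => IsNilpotent N)
      (fun _ N => G₀ N)]
    exact (Finset.sum_subtype _ (by simp) fun q : (W ≃ₗ[F] V) × Module.End K W => G₀ q.2).symm
  rw [hprod, sum_const, card_univ, nsmul_eq_mul, ← hcardx, Nat.card_eq_fintype_card]

end Cfsg.Lib.Cuspidal
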