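import Cfsg.Agent.Cuspidal.KeyLemma

/-!
# Values and power sums of the Moebius inverse of the dimension
-/

set_option autoImplicit false

namespace Cfsg.Lib.Cuspidal

attribute [local instance] Fintype.ofFinite

open scoped Classical
open Finset

universe u v

theorem conj_mob {α : Type v} [PartialOrder α] [Finite α] {S : α → Prop} {s : α → ℂ}
    (hs : ∀ x, starRingEnd ℂ (s x) = s x) : ∀ x, starRingEnd ℂ (mob S s x) = mob S s x := by
  intro x
  induction x using WellFoundedLT.induction with
  | _ x ih =>
    rw [mob_eq x, map_sub, map_sum, hs x]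
    congr 1
    exact sum_congr rfl fun y hy => ih y (mem_filter.mp hy).2.2

variable {K : Type u} [Field K] {V : Type v} [AddCommGroup V] [Module K V]

theorem conj_dimMob [Finite V] (f : Module.End K V) : starRingEnd ℂ (dimMob f) = dimMob f :=
  conj_mob (fun U => by simp) _

theorem dimMob_eq_sub [Finite V] (f : Module.End K V) :
    dimMob f = (Module.finrank K V : ℂ) -
      ∑ U : Submodule K V, if InvNZ f U ∧ U < ⊤ then dimMobSub f U else 0 := by
  rw [dimMob, dimMobSub, subMob, mob_eq, ← Finset.sum_filter, finrank_top]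

/-- `dimMob` of the zero map as a function of the dimension. -/
noncomputable def zeroVal (q : ℕ) : ℕ → ℂ
  | 0 => 0
  | s + 1 => ∏ i ∈ Finset.Ico 1 (s + 1), (1 - (q : ℂ) ^ i)

theorem zeroVal_succ_add (q s : ℕ) :
    zeroVal q (s + 1) + (q : ℂ) ^ s * zeroVal q s = zeroVal q s + if s = 0 then 1 else 0 := by
  cases s with
  | zero => simp [zeroVal]
  | succ t =>
    rw [if_neg t.succ_ne_zero, add_zero]
    simp only [zeroVal]
    rw [Finset.prod_Ico_succ_top (by omega)]
    ring

theorem sum_zeroVal : ∀ (n : ℕ) (V : Type v) [AddCommGroup V] [Module K V] [Finite V] [Finite K],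
    Module.finrank K V = n →
    ∑ U : Submodule K V, zeroVal (Nat.card K) (Module.finrank K U) = (n : ℂ) := by
  intro n
  induction n with
  | zero =>
    intro V _ _ _ _ hn
    rw [Nat.cast_zero]
    refine sum_eq_zero fun U _ => ?_
    have := U.finrank_le
    rw [hn, Nat.le_zero] at this
    rw [this]
    rfl
  | succ n ih =>
    intro V _ _ _ _ hn
    have : Nontrivial V := Module.nontrivial_of_finrank_eq_succ hn
    obtain ⟨v, hv⟩ := exists_ne (0 : V)
    set L : Submodule K V := K ∙ v with hL
    have hL1 : Module.finrank K L = 1 := finrank_span_singleton hv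
    have hq : Module.finrank K (V ⧸ L) = n := by
      have := L.finrank_quotient_add_finrank
      omega
    obtain ⟨ι, hι'⟩ := L.mkQ.exists_rightInverse_of_surjective (Submodule.range_mkQ L)
    have hι : ∀ y, L.mkQ (ι y) = y := fun y => LinearMap.congr_fun hι' y
    rw [← sum_filter_add_sum_filter_not univ (fun U => L ≤ U)]
    have hA : ∑ U ∈ univ.filter (fun U => L ≤ U), zeroVal (Nat.card K) (Module.finrank K U) =
        ∑ S : Submodule K (V ⧸ L), zeroVal (Nat.card K) (Module.finrank K S + 1) := by
      refine sum_bij' (fun U _ => U.map L.mkQ) (fun S _ => S.comap L.mkQ) ?_ ?_ ?_ ?_ ?_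
      · exact fun U _ => mem_univ _
      · intro S _
        simp only [mem_filter, mem_univ, true_and]
        intro x hx
        rw [Submodule.mem_comap, Submodule.mkQ_apply, (Submodule.Quotient.mk_eq_zero L).mpr hx]
        exact S.zero_mem
      · intro U hU
        simp only [mem_filter, mem_univ, true_and] at hU
        rw [Submodule.comap_map_eq, Submodule.ker_mkQ, sup_eq_left.mpr hU]
      · intro S _
        exact Submodule.map_comap_eq_of_surjective (Submodule.mkQ_surjective L) S
      · intro U hU
        simp only [mem_filter, mem_univ, true_and] at hU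
        congr 1
        have h1 := LinearMap.finrank_range_add_finrank_ker (L.mkQ.comp U.subtype)
        rw [LinearMap.range_comp, Submodule.range_subtype, LinearMap.ker_comp, Submodule.ker_mkQ] at h1
        rw [(Submodule.comapSubtypeEquivOfLe hU).finrank_eq, hL1] at h1
        exact h1.symm
    have hdis : ∀ U : Submodule K V, ¬ L ≤ U → U ⊓ L = ⊥ := fun U h => by
      rw [eq_bot_iff]
      rintro x ⟨hxU, hxL⟩
      obtain ⟨a, rfl⟩ := Submodule.mem_span_singleton.mp hxL
      by_contra hne
      have ha : a ≠ 0 := fun h0 => hne (by simp [h0])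
      exact h ((Submodule.span_singleton_le_iff_mem v U).mpr ((U.smul_mem_iff ha).mp hxU))
    have hB : ∑ U ∈ univ.filter (fun U => ¬ L ≤ U), zeroVal (Nat.card K) (Module.finrank K U) =
        ∑ S : Submodule K (V ⧸ L),
          ((Nat.card K : ℂ) ^ Module.finrank K S * zeroVal (Nat.card K) (Module.finrank K S)) := by
      rw [← Finset.sum_fiberwise _ (fun U => U.map L.mkQ)]
      refine sum_congr rfl fun S _ => ?_
      have hfin : ∀ U ∈ (univ.filter fun U => ¬ L ≤ U).filter (fun U => U.map L.mkQ = S),
          zeroVal (Nat.card K) (Module.finrank K U) = zeroVal (Nat.card K) (Module.finrank K S) := by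
        intro U hU
        simp only [mem_filter, mem_univ, true_and] at hU
        obtain ⟨hU1, rfl⟩ := hU
        congr 1
        have h1 := LinearMap.finrank_range_add_finrank_ker (L.mkQ.comp U.subtype)
        rw [LinearMap.range_comp, Submodule.range_subtype, LinearMap.ker_comp, Submodule.ker_mkQ,
          show L.comap U.subtype = ⊥ by
            rw [eq_bot_iff]
            intro x hx
            have : (x : V) ∈ U ⊓ L := ⟨x.2, hx⟩
            rw [hdis U hU1] at this
            exact Subtype.ext this, finrank_bot, add_zero] at h1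
        exact h1.symm
      rw [sum_congr rfl hfin, sum_const, nsmul_eq_mul]
      congr 1
      have hcard : ((univ.filter fun U => ¬ L ≤ U).filter fun U => U.map L.mkQ = S).card =
          Nat.card K ^ Module.finrank K S := by
        rw [Finset.filter_filter, ← Fintype.card_subtype, ← Nat.card_eq_fintype_card,
          Nat.card_congr (Equiv.subtypeEquivRight (q := fun U => U ⊓ L = ⊥ ∧ U.map L.mkQ = S)
            fun U => and_congr_left fun _ => ⟨hdis U, fun h hle => hv (by
              have : v ∈ U ⊓ L := ⟨hle (Submodule.mem_span_singleton_self v),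
                Submodule.mem_span_singleton_self v⟩
              rw [h] at this
              exact this)⟩), card_compl_eq hι S,
          Module.natCard_eq_pow_finrank (K := K) (V := S →ₗ[K] L), Module.finrank_linearMap, hL1,
          mul_one]
      rw [hcard]
      push_cast
      rfl
    rw [hA, hB, ← sum_add_distrib, sum_congr rfl fun S _ => zeroVal_succ_add _ _, sum_add_distrib,
      ih (V ⧸ L) hq]
    push_cast
    congr 1
    rw [Finset.sum_eq_single (⊥ : Submodule K (V ⧸ L))]
    · rw [finrank_bot, if_pos rfl]
    · intro S _ hS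
      rw [if_neg fun h => hS (Submodule.finrank_eq_zero.mp h)]
    · exact fun h => absurd (mem_univ _) h

/-- The value of `dimMob` at the zero map. -/
theorem dimMob_zero [Finite V] [Finite K] [Nontrivial V] :
    dimMob (0 : Module.End K V) =
      ∏ i ∈ Finset.Ico 1 (Module.finrank K V), (1 - (Nat.card K : ℂ) ^ i) := by
  have h0 : 0 < Module.finrank K V := Module.finrank_pos
  obtain ⟨s, hs⟩ := Nat.exists_eq_add_of_le h0
  have hS : ∀ U : Submodule K V, InvNZ (0 : Module.End K V) U ↔ U ≠ ⊥ := fun U =>
    ⟨fun h => h.1, fun h => ⟨h, fun x _ => U.zero_mem⟩⟩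
  have h := mob_unique (S := InvNZ (0 : Module.End K V))
    (s := fun U : Submodule K V => (Module.finrank K U : ℂ))
    (g := fun U : Submodule K V => zeroVal (Nat.card K) (Module.finrank K U)) (x := ⊤) ?_ ⊤ le_rfl
    (invNZ_top _)
  · rw [dimMob, dimMobSub, subMob, ← h, finrank_top, hs]
    rw [show 0 + 1 + s = s + 1 by omega]
    rfl
  · intro z _ _
    rw [← sum_zeroVal (K := K) _ z rfl]
    have hsum : ∑ y ∈ univ.filter (fun y => InvNZ (0 : Module.End K V) y ∧ y ≤ z),
        zeroVal (Nat.card K) (Module.finrank K y) =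
        ∑ y ∈ univ.filter (fun y : Submodule K V => y ≤ z),
          zeroVal (Nat.card K) (Module.finrank K y) := by
      refine sum_subset (fun y hy => ?_) fun y hy hy' => ?_
      · simp only [mem_filter, mem_univ, true_and] at hy ⊢
        exact hy.2
      · simp only [mem_filter, mem_univ, true_and] at hy hy'
        have : y = ⊥ := by
          by_contra hne
          exact hy' ⟨(hS y).mpr hne, hy⟩
        rw [this, finrank_bot]
        rfl
    rw [hsum]
    refine (sum_bij (fun y _ => y.map z.subtype) ?_ ?_ ?_ ?_).symm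
    · intro y _
      simp only [mem_filter, mem_univ, true_and]
      exact Submodule.map_subtype_le z y
    · exact fun a _ b _ h => Submodule.map_injective_of_injective Subtype.val_injective h
    · intro b hb
      simp only [mem_filter, mem_univ, true_and] at hb
      exact ⟨b.comap z.subtype, mem_univ _, by
        rw [Submodule.map_comap_subtype, inf_eq_right.mpr hb]⟩
    · intro y _
      rw [(Submodule.equivMapOfInjective z.subtype Subtype.val_injective y).finrank_eq]

/-- The sum of `dimMob` over the nilpotent maps. -/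
noncomputable def nilSum (K : Type u) (V : Type v) [Field K] [AddCommGroup V] [Module K V]
    [Finite V] : ℂ :=
  ∑ N ∈ univ.filter (fun N : Module.End K V => IsNilpotent N), dimMob N

theorem isNilpotent_add_block {W₀ : Submodule K V} {N B : Module.End K V}
    (hN : ∀ x ∈ W₀, N x ∈ W₀) (hB : B ∈ blockEnd W₀) (hn : IsNilpotent N) :
    IsNilpotent (N + B) := by
  obtain ⟨k, hk⟩ := hn
  have hW : ∀ j, ∀ x ∈ W₀, (N ^ j) x ∈ W₀ ∧ ((N + B) ^ j) x = (N ^ j) x := by
    intro j
    induction j with
    | zero => exact fun x hx => ⟨hx, rfl⟩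
    | succ j ih =>
      intro x hx
      rw [pow_succ', pow_succ', Module.End.mul_apply, Module.End.mul_apply, (ih x hx).2,
        LinearMap.add_apply, hB.1 _ (ih x hx).1, add_zero]
      exact ⟨hN _ (ih x hx).1, rfl⟩
  have hQ : ∀ j x, ((N + B) ^ j) x - (N ^ j) x ∈ W₀ := by
    intro j
    induction j with
    | zero => intro x; simp
    | succ j ih =>
      intro x
      rw [pow_succ', pow_succ', Module.End.mul_apply, Module.End.mul_apply, LinearMap.add_apply,
        show N (((N + B) ^ j) x) + B (((N + B) ^ j) x) - N ((N ^ j) x) =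
          N (((N + B) ^ j) x - (N ^ j) x) + B (((N + B) ^ j) x) by rw [map_sub]; abel]
      exact W₀.add_mem (hN _ (ih x)) (hB.2 _)
  refine ⟨k + k, ?_⟩
  apply LinearMap.ext
  intro x
  have h1 := hQ k x
  rw [hk, LinearMap.zero_apply, sub_zero] at h1
  rw [pow_add, Module.End.mul_apply, (hW k _ h1).2, hk, LinearMap.zero_apply, LinearMap.zero_apply]

theorem sum_dimMob_sq [Finite V] :
    ∑ N ∈ univ.filter (fun N : Module.End K V => IsNilpotent N), dimMob N * dimMob N =
      (Module.finrank K V : ℂ) * nilSum K V := by
  have hexp : ∀ N : Module.End K V, dimMob N * dimMob N = (Module.finrank K V : ℂ) * dimMob N -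
      ∑ U : Submodule K V, if InvNZ N U ∧ U < ⊤ then dimMob N * dimMobSub N U else 0 := by
    intro N
    conv_lhs => rw [dimMob_eq_sub N, sub_mul, mul_comm _ (_ : ℂ)]
    rw [← dimMob_eq_sub N]
    congr 1
    · ring
    · rw [Finset.sum_mul]
      refine sum_congr rfl fun U _ => ?_
      split_ifs <;> ring
  rw [sum_congr rfl fun N _ => hexp N, sum_sub_distrib, sum_comm, nilSum, mul_sum]
  have hzero : ∀ U : Submodule K V,
      (∑ N ∈ univ.filter (fun N : Module.End K V => IsNilpotent N),
        if InvNZ N U ∧ U < ⊤ then dimMob N * dimMobSub N U else 0) = 0 := by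
    intro U
    by_cases hU : U ≠ ⊥ ∧ U < ⊤
    swap
    · exact sum_eq_zero fun N _ => if_neg fun h => hU ⟨h.1.1, h.2⟩
    rw [← Finset.sum_filter, Finset.filter_filter]
    set s := univ.filter fun N : Module.End K V => IsNilpotent N ∧ InvNZ N U ∧ U < ⊤ with hs
    have hmem : ∀ {N : Module.End K V}, N ∈ s ↔ IsNilpotent N ∧ InvNZ N U ∧ U < ⊤ := fun {N} => by
      simp [s]
    have hshift : ∀ B : blockEnd U, ∀ N ∈ s, N + (B : Module.End K V) ∈ s := by
      intro B N hN
      rw [hmem] at hN ⊢
      refine ⟨isNilpotent_add_block hN.2.1.2 B.2 hN.1, ⟨hU.1, fun x hx => ?_⟩, hN.2.2⟩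
      rw [LinearMap.add_apply]
      exact U.add_mem (hN.2.1.2 x hx) (B.2.2 x)
    have h2 : ∀ B : blockEnd U, ∑ N ∈ s, dimMob (N + (B : Module.End K V)) * dimMobSub N U =
        ∑ N ∈ s, dimMob N * dimMobSub N U := by
      intro B
      refine sum_bij' (fun N _ => N + (B : Module.End K V))
        (fun N _ => N + ((-B : blockEnd U) : Module.End K V)) (fun N hN => hshift B N hN)
        (fun N hN => hshift (-B) N hN) (fun N _ => by simp) (fun N _ => by simp) fun N hN => ?_
      rw [dimMobSub_congr (f := N) (f' := N + (B : Module.End K V)) (hmem.mp hN).2.1 fun x hx => by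
        rw [LinearMap.add_apply, B.2.1 x hx, add_zero]]
    have h3 : ∑ B : blockEnd U, ∑ N ∈ s, dimMob (N + (B : Module.End K V)) * dimMobSub N U = 0 := by
      rw [sum_comm]
      refine sum_eq_zero fun N hN => ?_
      rw [← Finset.sum_mul,
        sum_dimMob_block_zero N U hU.1 hU.2.ne (hmem.mp hN).2.1.2, zero_mul]
    rw [sum_congr rfl fun B _ => h2 B, sum_const, smul_eq_zero] at h3
    exact h3.resolve_left (by simp)
  rw [sum_eq_zero fun U _ => hzero U, sub_zero]

end Cfsg.Lib.Cuspidal
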