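import Cfsg.Agent.Cuspidal.NilSum

/-!
# Sums of a function over the roots of a characteristic polynomial
-/

set_option autoImplicit false

namespace Cfsg.Lib.Cuspidal

attribute [local instance] Fintype.ofFinite

open scoped Classical
open Finset Polynomial

universe u v

variable {F : Type u} [Field F] {V : Type v} [AddCommGroup V] [Module F V]
  [FiniteDimensional F V] {L : Type*} [Field L] [Algebra F L]

/-- The sum of `θ` over the roots in `L` of the characteristic polynomial. -/
noncomputable def rootSum (θ : L → ℂ) (f : Module.End F V) : ℂ :=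
  ((f.charpoly.map (algebraMap F L)).roots.map θ).sum

/-- The sum of `θ` over the roots in `L` of `p`. -/
noncomputable def polySum (θ : L → ℂ) (p : F[X]) : ℂ :=
  ((p.map (algebraMap F L)).roots.map θ).sum

theorem rootSum_eq (θ : L → ℂ) (f : Module.End F V) : rootSum θ f = polySum θ f.charpoly := rfl

theorem polySum_mul (θ : L → ℂ) {p q : F[X]} (hp : p.Monic) (hq : q.Monic) :
    polySum θ (p * q) = polySum θ p + polySum θ q := by
  rw [polySum, polySum, polySum, Polynomial.map_mul,
    roots_mul (mul_ne_zero (hp.map _).ne_zero (hq.map _).ne_zero), Multiset.map_add,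
    Multiset.sum_add]

theorem polySum_pow (θ : L → ℂ) (p : F[X]) (j : ℕ) :
    polySum θ (p ^ j) = (j : ℂ) * polySum θ p := by
  rw [polySum, polySum, Polynomial.map_pow, roots_pow, Multiset.map_nsmul, Multiset.sum_nsmul,
    nsmul_eq_mul]

theorem charpoly_intertwine {W : Type*} [AddCommGroup W] [Module F W] [FiniteDimensional F W]
    (e : W ≃ₗ[F] V) {f : Module.End F V} {g : Module.End F W} (h : ∀ x, f (e x) = e (g x)) :
    f.charpoly = g.charpoly := by
  rw [← LinearEquiv.charpoly_conj e g]
  congr 1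
  apply LinearMap.ext
  intro x
  rw [LinearEquiv.conj_apply, LinearMap.comp_apply, LinearMap.comp_apply, LinearEquiv.coe_toLinearMap,
    LinearEquiv.coe_toLinearMap, ← h, e.apply_symm_apply]

theorem charpoly_eq_mul_quotient {f : Module.End F V} {U : Submodule F V}
    (hU : ∀ x ∈ U, f x ∈ U) :
    f.charpoly = (f.restrict hU).charpoly * LinearMap.charpoly (U.mapQ U f hU) := by
  obtain ⟨ι, hι'⟩ := U.mkQ.exists_rightInverse_of_surjective (Submodule.range_mkQ U)
  have hι : ∀ y, (Submodule.Quotient.mk (ι y) : V ⧸ U) = y := fun y => LinearMap.congr_fun hι' y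
  let e : (U × (V ⧸ U)) ≃ₗ[F] V :=
    LinearEquiv.ofBijective (U.subtype.coprod ι) ⟨by
      rw [← LinearMap.ker_eq_bot, eq_bot_iff]
      rintro ⟨u, y⟩ h
      have h1 : (u : V) + ι y = 0 := h
      have h2 : y = 0 := by
        have := congrArg (Submodule.Quotient.mk (p := U)) h1
        rwa [Submodule.Quotient.mk_add, (Submodule.Quotient.mk_eq_zero U).mpr u.2, zero_add, hι,
          Submodule.Quotient.mk_zero] at this
      subst h2
      rw [map_zero, add_zero] at h1
      have h3 : u = 0 := Subtype.ext h1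
      subst h3
      rfl, fun x => ⟨(⟨x - ι (Submodule.Quotient.mk x), by
        rw [← Submodule.Quotient.mk_eq_zero, Submodule.Quotient.mk_sub, hι, sub_self]⟩,
        Submodule.Quotient.mk x), by simp⟩⟩
  have he : ∀ z : U × (V ⧸ U), e z = (z.1 : V) + ι z.2 := fun z => rfl
  let g : Module.End F (U × (V ⧸ U)) := e.symm.conj f
  have hg : f.charpoly = g.charpoly := (LinearEquiv.charpoly_conj e.symm f).symm
  have hg1 : ∀ u : U, g (u, 0) = (f.restrict hU u, 0) := by
    intro u
    apply e.injective
    rw [show g (u, 0) = e.symm (f (e (u, 0))) from rfl, e.apply_symm_apply, he, he]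
    simp
  have hg2 : ∀ y, (g (0, y)).2 = U.mapQ U f hU y := by
    intro y
    have h1 : e (g (0, y)) = f (ι y) := by
      rw [show g (0, y) = e.symm (f (e (0, y))) from rfl, e.apply_symm_apply, he]
      simp
    have h2 : (Submodule.Quotient.mk (e (g (0, y))) : V ⧸ U) = (g (0, y)).2 := by
      simp [he, hι, (Submodule.Quotient.mk_eq_zero U).mpr (g (0, y)).1.2]
    rw [← h2, h1]
    conv_rhs => rw [← hι y]
    rfl
  let b₁ := Module.Free.chooseBasis F U
  let b₂ := Module.Free.chooseBasis F (V ⧸ U)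
  rw [hg, ← LinearMap.charpoly_toMatrix g (b₁.prod b₂), ← LinearMap.charpoly_toMatrix _ b₁,
    ← LinearMap.charpoly_toMatrix _ b₂,
    ← Matrix.charpoly_fromBlocks_zero₂₁ _
      (Matrix.of fun i j => b₁.repr (g (0, b₂ j)).1 i) _]
  congr 1
  ext (i | i) (j | j) <;> simp [LinearMap.toMatrix_apply, hg1, hg2]

/-- The weight of an invariant subspace. -/
noncomputable def wSub (θ : L → ℂ) (f : Module.End F V) (U : Submodule F V) : ℂ :=
  if h : ∀ x ∈ U, f x ∈ U then rootSum θ (f.restrict h) else 0

theorem wSub_eq (θ : L → ℂ) {f : Module.End F V} {U : Submodule F V} (h : ∀ x ∈ U, f x ∈ U) :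
    wSub θ f U = rootSum θ (f.restrict h) := dif_pos h

theorem wSub_top (θ : L → ℂ) (f : Module.End F V) : wSub θ f ⊤ = rootSum θ f := by
  rw [wSub_eq θ (fun x _ => Submodule.mem_top), rootSum_eq, rootSum_eq]
  congr 1
  exact (charpoly_intertwine (Submodule.topEquiv) fun x => rfl).symm

theorem wSub_map {W : Type*} [AddCommGroup W] [Module F W] [FiniteDimensional F W]
    (θ : L → ℂ) (ι : W →ₗ[F] V) (hι : Function.Injective ι) {f : Module.End F V}
    {g : Module.End F W} (hfg : ∀ x, f (ι x) = ι (g x)) {a : Submodule F W}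
    (ha : ∀ x ∈ a, g x ∈ a) : wSub θ f (a.map ι) = wSub θ g a := by
  have hm : ∀ x ∈ a.map ι, f x ∈ a.map ι := by
    rintro _ ⟨x, hx, rfl⟩
    exact ⟨g x, ha x hx, (hfg x).symm⟩
  rw [wSub_eq θ hm, wSub_eq θ ha, rootSum_eq, rootSum_eq]
  congr 1
  exact charpoly_intertwine (Submodule.equivMapOfInjective ι hι a) fun x => Subtype.ext (hfg x)

theorem wSub_sup (θ : L → ℂ) {f : Module.End F V} {a b : Submodule F V}
    (ha : ∀ x ∈ a, f x ∈ a) (hb : ∀ x ∈ b, f x ∈ b) (hab : Disjoint a b) :
    wSub θ f (a ⊔ b) = wSub θ f a + wSub θ f b := by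
  have hs : ∀ x ∈ a ⊔ b, f x ∈ a ⊔ b := by
    intro x hx
    obtain ⟨y, hy, z, hz, rfl⟩ := Submodule.mem_sup.mp hx
    rw [map_add]
    exact Submodule.add_mem_sup (ha y hy) (hb z hz)
  rw [wSub_eq θ hs, wSub_eq θ ha, wSub_eq θ hb, rootSum_eq, rootSum_eq, rootSum_eq,
    ← polySum_mul θ (LinearMap.charpoly_monic _) (LinearMap.charpoly_monic _),
    ← LinearMap.charpoly_prodMap]
  congr 1
  let p : (a × b) →ₗ[F] (a ⊔ b : Submodule F V) :=
    (a.subtype.coprod b.subtype).codRestrict _ fun x => by
      simpa using Submodule.add_mem_sup x.1.2 x.2.2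
  have hp : Function.Bijective p := by
    constructor
    · rw [← LinearMap.ker_eq_bot, eq_bot_iff]
      rintro ⟨y, z⟩ h
      have h1 : (y : V) + (z : V) = 0 := congrArg Subtype.val h
      have h2 : (y : V) ∈ a ⊓ b := ⟨y.2, by
        rw [eq_neg_of_add_eq_zero_left h1]
        exact b.neg_mem z.2⟩
      rw [hab.eq_bot] at h2
      have hy : (y : V) = 0 := h2
      rw [hy, zero_add] at h1
      exact Prod.ext (Subtype.ext hy) (Subtype.ext h1)
    · rintro ⟨x, hx⟩
      obtain ⟨y, hy, z, hz, rfl⟩ := Submodule.mem_sup.mp hx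
      exact ⟨(⟨y, hy⟩, ⟨z, hz⟩), rfl⟩
  exact charpoly_intertwine (LinearEquiv.ofBijective p hp) fun x => Subtype.ext (by simp [p])

section Finite

variable [Finite V]

/-- The Moebius inversion of the root sums at the whole space. -/
noncomputable def cusp (θ : L → ℂ) (f : Module.End F V) : ℂ := subMob f (wSub θ f) ⊤

theorem subMob_wSub_restrict (θ : L → ℂ) {f : Module.End F V} {U : Submodule F V}
    (hU : InvNZ f U) : subMob f (wSub θ f) U = cusp θ (f.restrict hU.2) := by
  have : Nontrivial U := Submodule.nontrivial_iff_ne_bot.mpr hU.1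
  have h := subMob_map U.subtype Subtype.val_injective (f := f) (g := f.restrict hU.2)
    (fun x => rfl) (t := wSub θ f) (s := wSub θ (f.restrict hU.2)) 1
    (fun a ha => by rw [one_mul, wSub_map θ U.subtype Subtype.val_injective (fun x => rfl) ha.2])
    (invNZ_top _)
  rw [Submodule.map_top, Submodule.range_subtype, one_mul] at h
  exact h

theorem cusp_intertwine (θ : L → ℂ) {W : Type*} [AddCommGroup W] [Module F W] [Finite W]
    [Nontrivial W] (e : W ≃ₗ[F] V) {f : Module.End F V} {g : Module.End F W}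
    (hfg : ∀ x, f (e x) = e (g x)) : cusp θ f = cusp θ g := by
  have h := subMob_map e.toLinearMap e.injective (f := f) (g := g) hfg (t := wSub θ f)
    (s := wSub θ g) 1 (fun a ha => by rw [one_mul, wSub_map θ _ e.injective hfg ha.2])
    (invNZ_top g)
  rw [Submodule.map_top, LinearEquiv.range, one_mul] at h
  exact h

theorem cusp_eq_sub (θ : L → ℂ) (f : Module.End F V) :
    cusp θ f = rootSum θ f -
      ∑ U : Submodule F V, if InvNZ f U ∧ U < ⊤ then subMob f (wSub θ f) U else 0 := by
  rw [cusp, subMob, mob_eq, ← Finset.sum_filter, wSub_top]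

end Finite

theorem aeval_mem {f : Module.End F V} {U : Submodule F V} (hU : ∀ x ∈ U, f x ∈ U) (p : F[X]) :
    ∀ x ∈ U, aeval f p x ∈ U := by
  induction p using Polynomial.induction_on' with
  | add p q hp hq => intro x hx; simpa using U.add_mem (hp x hx) (hq x hx)
  | monomial m a =>
    intro x hx
    rw [aeval_monomial, Module.End.mul_apply, Module.algebraMap_end_apply]
    refine U.smul_mem a ?_
    induction m generalizing x with
    | zero => simpa using hx
    | succ m ih => rw [pow_succ, Module.End.mul_apply]; exact ih _ (hU x hx)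

theorem aeval_restrict_apply {f : Module.End F V} {U : Submodule F V} (hU : ∀ x ∈ U, f x ∈ U)
    (p : F[X]) : ∀ x : U, ((aeval (f.restrict hU) p x : U) : V) = aeval f p (x : V) := by
  induction p using Polynomial.induction_on' with
  | add p q hp hq => intro x; simp [hp, hq]
  | monomial m a =>
    intro x
    rw [aeval_monomial, aeval_monomial, Module.End.mul_apply, Module.End.mul_apply,
      Module.algebraMap_end_apply, Module.algebraMap_end_apply, Submodule.coe_smul]
    congr 1
    induction m generalizing x with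
    | zero => rfl
    | succ m ih => rw [pow_succ, pow_succ, Module.End.mul_apply, Module.End.mul_apply, ih]; rfl

theorem eq_of_irreducible_dvd_charpoly {f : Module.End F V} {π p : F[X]} (hπ : π.Monic)
    (hπi : Irreducible π) (hn : IsNilpotent (aeval f π)) (hp : p.Monic) (hpi : Irreducible p)
    (hd : p ∣ f.charpoly) : p = π := by
  obtain ⟨e, he⟩ := hn
  let b := Module.Free.chooseBasis F V
  set M := LinearMap.toMatrix b b f with hMdef
  have : Fact (Irreducible p) := ⟨hpi⟩
  have : Nonempty (Module.Free.ChooseBasisIndex F V) := by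
    by_contra h
    rw [not_nonempty_iff] at h
    have h1 : f.charpoly = 1 := by
      rw [← LinearMap.charpoly_toMatrix f b]
      rw [Matrix.charpoly, Matrix.det_isEmpty]
    rw [h1] at hd
    exact hpi.not_isUnit (isUnit_of_dvd_one hd)
  have h0 : (algebraMap F (AdjoinRoot p)).mapMatrix (aeval M (π ^ e)) = 0 := by
    have : aeval M (π ^ e) = LinearMap.toMatrixAlgEquiv b (aeval f (π ^ e)) :=
      Polynomial.aeval_algHom_apply (LinearMap.toMatrixAlgEquiv b) f _
    rw [this, map_pow, he, map_zero, map_zero]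
  set M' := M.map (algebraMap F (AdjoinRoot p)) with hM'
  have h1 : aeval M' ((π ^ e).map (algebraMap F (AdjoinRoot p))) = 0 := by
    rw [aeval_map_algebraMap]
    have h2 := Polynomial.aeval_algHom_apply (Algebra.ofId F (AdjoinRoot p)).mapMatrix M (π ^ e)
    rw [show (Algebra.ofId F (AdjoinRoot p)).mapMatrix M = M' from rfl] at h2
    rw [h2]
    exact h0
  have hroot : (AdjoinRoot.root p) ∈ spectrum (AdjoinRoot p) M' := by
    rw [Matrix.mem_spectrum_iff_isRoot_charpoly, hM', Matrix.charpoly_map,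
      LinearMap.charpoly_toMatrix, IsRoot, eval_map, ← aeval_def, AdjoinRoot.aeval_eq]
    exact AdjoinRoot.mk_eq_zero.mpr hd
  have h3 := spectrum.subset_polynomial_aeval M' ((π ^ e).map (algebraMap F (AdjoinRoot p)))
    ⟨_, hroot, rfl⟩
  rw [h1, spectrum.zero_eq, Set.mem_singleton_iff] at h3
  simp only [eval_map, ← aeval_def, map_pow] at h3
  have h4 : aeval (AdjoinRoot.root p) π = 0 := eq_zero_of_pow_eq_zero h3
  rw [AdjoinRoot.aeval_eq, AdjoinRoot.mk_eq_zero] at h4
  exact eq_of_monic_of_associated hp hπ (hpi.associated_of_dvd hπi h4)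

theorem charpoly_eq_pow {f : Module.End F V} {π : F[X]} (hπ : π.Monic) (hπi : Irreducible π)
    (hn : IsNilpotent (aeval f π)) :
    ∃ j, f.charpoly = π ^ j ∧ j * π.natDegree = Module.finrank F V := by
  obtain ⟨j, b, hb, he⟩ :=
    WfDvdMonoid.max_power_factor (LinearMap.charpoly_monic f).ne_zero hπi
  have hbu : IsUnit b := by
    by_contra hbu
    obtain ⟨p, hp, hpi, hpd⟩ := Polynomial.exists_monic_irreducible_factor b hbu
    exact hb (eq_of_irreducible_dvd_charpoly hπ hπi hn hp hpi (he ▸ hpd.mul_left _) ▸ hpd)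
  have hb1 : b = 1 := by
    have : b.Monic := (hπ.pow j).of_mul_monic_left (he ▸ LinearMap.charpoly_monic f)
    exact this.eq_one_of_isUnit hbu
  rw [hb1, mul_one] at he
  refine ⟨j, he, ?_⟩
  rw [← LinearMap.charpoly_natDegree f, he, natDegree_pow]

theorem rootSum_primary (θ : L → ℂ) {f : Module.End F V} {π : F[X]} (hπ : π.Monic)
    (hπi : Irreducible π) (hn : IsNilpotent (aeval f π)) :
    rootSum θ f = polySum θ π / (π.natDegree : ℂ) * (Module.finrank F V : ℂ) := by
  obtain ⟨j, hj, hd⟩ := charpoly_eq_pow hπ hπi hn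
  rw [rootSum_eq, hj, polySum_pow, ← hd]
  push_cast
  have : (π.natDegree : ℂ) ≠ 0 := by exact_mod_cast (Irreducible.natDegree_pos hπi).ne'
  field_simp

theorem cusp_primary [Finite V] [Nontrivial V] (θ : L → ℂ) {f : Module.End F V} {π : F[X]}
    (hπ : π.Monic) (hπi : Irreducible π) (hn : IsNilpotent (aeval f π)) :
    cusp θ f = polySum θ π / (π.natDegree : ℂ) * dimMob f := by
  unfold cusp dimMob dimMobSub subMob
  refine mob_transport id (polySum θ π / (π.natDegree : ℂ)) ⊤ (fun a _ h => h)
    (fun a b _ _ _ _ => Iff.rfl) (fun a _ _ b hb _ => ⟨b, le_top, hb, rfl⟩) (fun a _ ha => ?_) ⊤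
    le_rfl (invNZ_top f)
  rw [id, wSub_eq θ ha.2]
  refine rootSum_primary θ hπ hπi ?_
  obtain ⟨e, he⟩ := hn
  refine ⟨e, ?_⟩
  apply LinearMap.ext
  intro x
  apply Subtype.ext
  rw [← map_pow, aeval_restrict_apply, map_pow, he]
  rfl

/-- The inversion vanishes unless the endomorphism is primary. -/
theorem exists_primary_of_cusp_ne_zero [Finite V] [Nontrivial V] (θ : L → ℂ) {f : Module.End F V}
    (h : cusp θ f ≠ 0) : ∃ π : F[X], π.Monic ∧ Irreducible π ∧ IsNilpotent (aeval f π) := by
  have hint : IsIntegral F f := Algebra.IsIntegral.isIntegral f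
  obtain ⟨π, hπ, hπi, hπd⟩ := Polynomial.exists_monic_irreducible_factor (minpoly F f)
    (minpoly.not_isUnit F f)
  refine ⟨π, hπ, hπi, ?_⟩
  obtain ⟨e, b, hb, he⟩ := WfDvdMonoid.max_power_factor (minpoly.ne_zero hint) hπi
  have hz : aeval f (π ^ e) * aeval f b = 0 := by rw [← map_mul, ← he, minpoly.aeval]
  by_cases hbu : IsUnit b
  · refine ⟨e, ?_⟩
    rw [← map_pow]
    exact (hbu.map (aeval f)).mul_left_eq_zero.mp hz
  exfalso
  apply h
  set A := LinearMap.ker (aeval f (π ^ e)) with hAdef
  set B := LinearMap.ker (aeval f b) with hBdef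
  have hinv : ∀ p : F[X], ∀ x ∈ LinearMap.ker (aeval f p), f x ∈ LinearMap.ker (aeval f p) := by
    intro p x hx
    rw [LinearMap.mem_ker] at hx ⊢
    have : aeval f p * f = f * aeval f p := by
      simpa using congrArg (aeval f) (mul_comm p X)
    rw [← Module.End.mul_apply, this, Module.End.mul_apply, hx, map_zero]
  have hcop : IsCoprime (π ^ e) b := ((hπi.coprime_iff_not_dvd).mpr hb).pow_left
  obtain ⟨u, w, huw⟩ := hcop
  have hdec : ∀ x, aeval f (u * π ^ e) x + aeval f (w * b) x = x := fun x => by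
    rw [← LinearMap.add_apply, ← map_add, huw, map_one, Module.End.one_apply]
  have hcomm : ∀ (p r : F[X]) (x : V), aeval f p (aeval f r x) = aeval f r (aeval f p x) :=
    fun p r x => by
      rw [← Module.End.mul_apply, ← map_mul, mul_comm, map_mul, Module.End.mul_apply]
  have hzero : ∀ x, aeval f (π ^ e) (aeval f b x) = 0 := fun x => LinearMap.congr_fun hz x
  have hdis : Disjoint A B := by
    rw [disjoint_iff, eq_bot_iff]
    rintro x ⟨hxA, hxB⟩
    rw [hAdef, SetLike.mem_coe, LinearMap.mem_ker] at hxA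
    rw [hBdef, SetLike.mem_coe, LinearMap.mem_ker] at hxB
    rw [Submodule.mem_bot, ← hdec x, map_mul, map_mul, Module.End.mul_apply, Module.End.mul_apply,
      hxA, hxB, map_zero, map_zero, add_zero]
  have hsplit : ∀ U, InvNZ f U → U ≤ U ⊓ A ⊔ U ⊓ B := by
    intro U hU x hx
    rw [← hdec x]
    refine add_comm (aeval f (u * π ^ e) x) _ ▸ Submodule.add_mem_sup
      ⟨aeval_mem hU.2 _ x hx, ?_⟩ ⟨aeval_mem hU.2 _ x hx, ?_⟩
    · rw [hAdef, SetLike.mem_coe, LinearMap.mem_ker, map_mul, Module.End.mul_apply, hcomm _ w,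
        hzero, map_zero]
    · rw [hBdef, SetLike.mem_coe, LinearMap.mem_ker, map_mul, Module.End.mul_apply, hcomm _ u,
        hcomm b, hzero, map_zero]
  have hA0 : A ≠ ⊥ := by
    intro hA
    apply hb
    have hbz : aeval f b = 0 := LinearMap.ext fun x => by
      have : aeval f b x ∈ A := hzero x
      rw [hA] at this
      exact this
    exact hπd.trans (minpoly.dvd F f hbz)
  have hB0 : B ≠ ⊥ := by
    intro hB
    apply hbu
    have hpz : aeval f (π ^ e) = 0 := LinearMap.ext fun x => by
      have : aeval f (π ^ e) x ∈ B := by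
        rw [hBdef, LinearMap.mem_ker, hcomm, hzero]
      rw [hB] at this
      exact this
    have h1 := minpoly.dvd F f hpz
    rw [he] at h1
    exact isUnit_of_dvd_one ((mul_dvd_mul_iff_left (hπ.pow e).ne_zero).mp (by rwa [mul_one]))
  exact subMob_eq_zero_of_split (hinv _) (hinv _) hdis hsplit
    (fun a c ha hc hac => wSub_sup θ ha.2 hc.2 hac) ⊤ (invNZ_top f)
    (by rwa [top_inf_eq]) (by rwa [top_inf_eq])

end Cfsg.Lib.Cuspidal
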